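/-
Generation of `SL_n` by conjugates of a regular unipotent element.
-/
import Mathlib.GroupTheory.Perm.Fin
import Mathlib.LinearAlgebra.Matrix.Permutation
import Mathlib.LinearAlgebra.Matrix.Block
import Mathlib.RingTheory.IntegralDomain
import Cfsg.Agent.Lib.PSLn.Aut

set_option autoImplicit false

namespace CfsgLib.SLGen

open Matrix CfsgLib.PSLn

variable {F : Type*} [Field F]

section General

variable {n : ℕ}

local notation "SL" => Matrix.SpecialLinearGroup (Fin n) F

theorem diag2n_decompose {i j : Fin n} (hij : i ≠ j) (c : F) (hc : c ≠ 0) :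
    SpecialLinearGroup.diag2n hij c hc =
      xx i j hij c * xx j i hij.symm (-c⁻¹) * xx i j hij c * xx i j hij (-1) * xx j i hij.symm 1 *
        xx i j hij (-1) := by
  apply Subtype.ext
  simp only [SpecialLinearGroup.coe_mul, coe_xx, SpecialLinearGroup.diag2n_coe, Matrix.mul_add,
    Matrix.add_mul, Matrix.mul_one, Matrix.one_mul, Matrix.single_mul_single_same,
    Matrix.single_mul_single_of_ne _ _ _ _ hij, Matrix.single_mul_single_of_ne _ _ _ _ hij.symm,
    Matrix.zero_mul, zero_add, add_zero]
  ext k l
  by_cases hki : k = i <;> by_cases hkj : k = j <;> by_cases hli : l = i <;> by_cases hlj : l = j <;>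
    simp_all [Matrix.single_apply, Matrix.one_apply, Matrix.diagonal_apply, eq_comm] <;>
      (try field_simp) <;> (try ring)

theorem eq_top_of_xx (hn : 2 ≤ n) {H : Subgroup SL} (h : ∀ i j hij a, xx i j hij a ∈ H) : H = ⊤ := by
  have : Nontrivial (Fin n) := Fin.nontrivial_iff_two_le.mpr hn
  rw [Subgroup.eq_top_iff']
  intro A
  refine SpecialLinearGroup.diagonal_transvection_induction' (P := fun A => A ∈ H) A
    (fun i j hij c hc => ?_) (fun i j hij a => h i j hij a) (fun A B hA hB => mul_mem hA hB)
  rw [diag2n_decompose]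
  exact mul_mem (mul_mem (mul_mem (mul_mem (mul_mem (h _ _ _ _) (h _ _ _ _)) (h _ _ _ _)) (h _ _ _ _))
    (h _ _ _ _)) (h _ _ _ _)

theorem comm_mem {H : Subgroup SL} {i j k : Fin n} (hij : i ≠ j) (hjk : j ≠ k) (hik : i ≠ k)
    {a b : F} (ha : xx i j hij a ∈ H) (hb : xx j k hjk b ∈ H) : xx i k hik (a * b) ∈ H := by
  have h := mul_mem (inv_mem hb) (mul_mem (mul_mem ha hb) (inv_mem ha))
  rwa [xx_comm_rel hij hjk hik, inv_mul_cancel_left] at h

/-- All multiples are present once all powers of a generator of the units are. -/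
theorem xx_all_of_powers [Fintype F] {H : Subgroup SL} {i j : Fin n} (hij : i ≠ j) {θ : Fˣ}
    (hθ : ∀ x : Fˣ, x ∈ Subgroup.zpowers θ) (h : ∀ k : ℕ, xx i j hij ((θ : F) ^ k) ∈ H) (a : F) :
    xx i j hij a ∈ H := by
  by_cases ha : a = 0
  · rw [ha, xx_zero]; exact one_mem H
  · obtain ⟨k, hk⟩ := (isOfFinOrder_of_finite θ).mem_powers_iff_mem_zpowers.mpr (hθ (Units.mk0 a ha))
    have : (θ : F) ^ k = a := by
      rw [← Units.val_pow_eq_pow_val]; exact congrArg Units.val hk
    exact this ▸ h k

end General

variable {d : ℕ}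

local notation "SL" => Matrix.SpecialLinearGroup (Fin (d + 4)) F
local notation "Mat" => Matrix (Fin (d + 4)) (Fin (d + 4)) F

/-- The last index. -/
abbrev iL : Fin (d + 4) := ⟨d + 3, by omega⟩
/-- The last index but one. -/
abbrev iP : Fin (d + 4) := ⟨d + 2, by omega⟩
/-- The last index but two. -/
abbrev iQ : Fin (d + 4) := ⟨d + 1, by omega⟩

/-- The shift matrix. -/
def shiftN : Mat := Matrix.of fun i j => if i.val + 1 = j.val then 1 else 0

theorem shiftN_apply (i j : Fin (d + 4)) :
    (shiftN : Mat) i j = if i.val + 1 = j.val then 1 else 0 := rfl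

theorem shiftN_mul_single (i i' j : Fin (d + 4)) (h : i'.val + 1 = i.val) (a : F) :
    shiftN * single i j a = single i' j a := by
  ext k l
  by_cases hl : l = j
  · subst hl
    rw [Matrix.mul_single_apply_same, shiftN_apply]
    by_cases hk : k = i'
    · subst hk; rw [if_pos h, one_mul, Matrix.single_apply_same]
    · rw [if_neg (fun e => hk (Fin.ext (by omega))), zero_mul,
        Matrix.single_apply_of_row_ne (Ne.symm hk)]
  · rw [Matrix.mul_single_apply_of_ne _ _ _ _ _ hl, Matrix.single_apply, if_neg (fun e => hl e.2.symm)]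

theorem shiftN_mul_single_zero (i j : Fin (d + 4)) (h : i.val = 0) (a : F) :
    shiftN * single i j a = (0 : Mat) := by
  ext k l
  by_cases hl : l = j
  · subst hl
    rw [Matrix.mul_single_apply_same, shiftN_apply, if_neg (by omega), zero_mul, Matrix.zero_apply]
  · rw [Matrix.mul_single_apply_of_ne _ _ _ _ _ hl, Matrix.zero_apply]

theorem single_mul_shiftN (i j j' : Fin (d + 4)) (h : j.val + 1 = j'.val) (a : F) :
    single i j a * shiftN = single i j' a := by
  ext k l
  by_cases hk : k = i
  · subst hk
    rw [Matrix.single_mul_apply_same, shiftN_apply]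
    by_cases hl : l = j'
    · subst hl; rw [if_pos h, mul_one, Matrix.single_apply_same]
    · rw [if_neg (fun e => hl (Fin.ext (by omega))), mul_zero,
        Matrix.single_apply, if_neg (fun e => hl e.2.symm)]
  · rw [Matrix.single_mul_apply_of_ne _ _ _ _ _ hk, Matrix.single_apply_of_row_ne (Ne.symm hk)]

theorem single_mul_shiftN_last (i j : Fin (d + 4)) (h : j.val = d + 3) (a : F) :
    single i j a * shiftN = (0 : Mat) := by
  ext k l
  by_cases hk : k = i
  · subst hk
    rw [Matrix.single_mul_apply_same, shiftN_apply, if_neg (by omega), mul_zero, Matrix.zero_apply]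
  · rw [Matrix.single_mul_apply_of_ne _ _ _ _ _ hk, Matrix.zero_apply]

/-- The regular unipotent Jordan block. -/
def jordan : SL := ⟨1 + shiftN, by
  rw [Matrix.det_of_upperTriangular]
  · exact Finset.prod_eq_one fun i _ => by simp [shiftN_apply]
  · intro i j hij
    have hij' : j.val < i.val := hij
    have hne : i ≠ j := fun e => by subst e; omega
    simp [shiftN_apply, Matrix.one_apply_ne hne, show ¬ i.val + 1 = j.val by omega]⟩

theorem coe_jordan : (jordan : SL).1 = 1 + shiftN := rfl

theorem shiftN_pow (k : ℕ) (i j : Fin (d + 4)) :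
    ((shiftN : Mat) ^ k) i j = if i.val + k = j.val then 1 else 0 := by
  induction k generalizing i j with
  | zero => simp [Matrix.one_apply, Fin.ext_iff]
  | succ k ih =>
    rw [pow_succ, Matrix.mul_apply]
    by_cases h : i.val + (k + 1) = j.val
    · rw [if_pos h, Finset.sum_eq_single ⟨i.val + k, by omega⟩]
      · rw [ih, shiftN_apply, if_pos rfl, if_pos (by simp only; omega), one_mul]
      · intro l _ hl
        rw [ih, if_neg (fun e => hl (Fin.ext (by simp only; omega))), zero_mul]
      · intro hl; exact absurd (Finset.mem_univ _) hl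
    · rw [if_neg h]
      refine Finset.sum_eq_zero fun l _ => ?_
      rw [ih, shiftN_apply]
      split_ifs with h1 h2
      · omega
      all_goals simp

theorem jordan_regular :
    IsNilpotent ((jordan : SL).1 - 1) ∧ ((jordan : SL).1 - 1) ^ (d + 4 - 1) ≠ 0 := by
  rw [coe_jordan, add_sub_cancel_left]
  refine ⟨⟨d + 4, ?_⟩, fun h => ?_⟩
  · ext i j
    rw [shiftN_pow, if_neg (by omega), Matrix.zero_apply]
  · have h' := congrFun (congrFun h 0) iL
    rw [shiftN_pow, Matrix.zero_apply, if_pos (by simp)] at h'
    exact one_ne_zero h'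

/-- The element `1 + E_{0,P}` twisting the Jordan block. -/
theorem jordan_conj_eq :
    xx (0 : Fin (d + 4)) iQ (by simp [Fin.ext_iff]) (1 : F) * jordan =
      jordan * xx 0 iP (by simp [Fin.ext_iff]) 1 * xx 0 iQ (by simp [Fin.ext_iff]) 1 := by
  apply Subtype.ext
  simp only [SpecialLinearGroup.coe_mul, coe_xx, coe_jordan, Matrix.mul_add, Matrix.add_mul,
    Matrix.mul_one, Matrix.one_mul]
  rw [single_mul_shiftN (0 : Fin (d + 4)) iQ iP rfl, shiftN_mul_single_zero 0 iP rfl,
    shiftN_mul_single_zero 0 iQ rfl, Matrix.single_mul_single_of_ne _ _ _ _ (by simp [Fin.ext_iff])]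
  simp only [Matrix.zero_mul, add_zero]
  abel

/-- Generation from the Jordan block, a root element and one more element. -/
theorem gen_eq_top [Fintype F] {H : Subgroup SL} {θ : Fˣ} (hθ : ∀ x : Fˣ, x ∈ Subgroup.zpowers θ)
    (c : F) (hu : jordan ∈ H) (hX : xx (0 : Fin (d + 4)) iP (by simp [Fin.ext_iff]) (1 : F) ∈ H)
    (hv : xx iQ iP (by simp [Fin.ext_iff]) c *
      (xx iP iL (by simp [Fin.ext_iff]) (-1) * jordan) *
      xx iL 0 (by simp [Fin.ext_iff]) (θ : F) ∈ H) : H = ⊤ := by
  classical
  have hZP : (0 : Fin (d + 4)) ≠ iP := by simp [Fin.ext_iff]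
  have hZL : (0 : Fin (d + 4)) ≠ iL := by simp [Fin.ext_iff]
  have hLP : (iL : Fin (d + 4)) ≠ iP := by simp [Fin.ext_iff]
  have hQP : (iQ : Fin (d + 4)) ≠ iP := by simp [Fin.ext_iff]
  have hQZ : (iQ : Fin (d + 4)) ≠ 0 := by simp [Fin.ext_iff]
  have hQL : (iQ : Fin (d + 4)) ≠ iL := by simp [Fin.ext_iff]
  -- from the column of the first basis vector: the conjugate by the Jordan block
  have stepU : ∀ a : F, xx 0 iP hZP a ∈ H → xx 0 iL hZL a ∈ H := by
    intro a ha
    have e : jordan * xx 0 iP hZP a = xx 0 iP hZP a * xx 0 iL hZL (-a) * jordan := by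
      apply Subtype.ext
      simp only [SpecialLinearGroup.coe_mul, coe_xx, coe_jordan, Matrix.mul_add, Matrix.add_mul,
        Matrix.mul_one, Matrix.one_mul]
      rw [shiftN_mul_single_zero 0 iP rfl, single_mul_shiftN (0 : Fin (d + 4)) iP iL rfl,
        single_mul_shiftN_last (0 : Fin (d + 4)) iL rfl,
        Matrix.single_mul_single_of_ne _ _ _ _ hZP.symm, ← Matrix.single_neg]
      simp only [Matrix.zero_mul, add_zero]
      abel
    have h := mul_mem (mul_mem hu ha) (inv_mem hu)
    rw [e, mul_inv_cancel_right] at h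
    have h2 := mul_mem (inv_mem ha) h
    rw [inv_mul_cancel_left] at h2
    have h3 := inv_mem h2
    rwa [xx_inv, neg_neg] at h3
  -- the conjugate by the third element
  have stepV : ∀ a : F, xx 0 iP hZP a ∈ H → xx iL iP hLP ((θ : F) * a) ∈ H := by
    intro a ha
    set v := xx iQ iP hQP c * (xx iP iL hLP.symm (-1) * jordan) * xx iL 0 hZL.symm (θ : F)
    have e : v * xx 0 iP hZP a = xx 0 iP hZP a * xx iL iP hLP ((θ : F) * a) * v := by
      have e1 : xx iL 0 hZL.symm (θ : F) * xx 0 iP hZP a =
          xx 0 iP hZP a * xx iL iP hLP ((θ : F) * a) * xx iL 0 hZL.symm (θ : F) := by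
        apply Subtype.ext
        simp only [SpecialLinearGroup.coe_mul, coe_xx, Matrix.mul_add, Matrix.add_mul,
          Matrix.mul_one, Matrix.one_mul, Matrix.single_mul_single_same,
          Matrix.single_mul_single_of_ne _ _ _ _ hLP.symm, Matrix.single_mul_single_of_ne _ _ _ _ hZP.symm,
          Matrix.zero_mul, add_zero]
        abel
      have e2 : (xx iQ iP hQP c * (xx iP iL hLP.symm (-1) * jordan)) *
            (xx 0 iP hZP a * xx iL iP hLP ((θ : F) * a)) =
          (xx 0 iP hZP a * xx iL iP hLP ((θ : F) * a)) *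
            (xx iQ iP hQP c * (xx iP iL hLP.symm (-1) * jordan)) := by
        apply Subtype.ext
        simp only [SpecialLinearGroup.coe_mul, coe_xx, coe_jordan, Matrix.mul_add, Matrix.add_mul,
          Matrix.mul_one, Matrix.one_mul, Matrix.mul_assoc,
          Matrix.single_mul_single_of_ne _ _ _ _ hLP.symm, Matrix.single_mul_single_of_ne _ _ _ _ hZP.symm,
          Matrix.single_mul_single_of_ne _ _ _ _ hZP, Matrix.single_mul_single_of_ne _ _ _ _ hQZ.symm,
          Matrix.single_mul_single_of_ne _ _ _ _ hQP.symm, Matrix.single_mul_single_of_ne _ _ _ _ hLP,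
          Matrix.single_mul_single_of_ne _ _ _ _ hQL.symm,
          Matrix.single_mul_single_of_ne _ _ _ _ hQL, Matrix.single_mul_single_of_ne _ _ _ _ hZL,
          Matrix.single_mul_single_of_ne _ _ _ _ hZL.symm, Matrix.single_mul_single_same,
          shiftN_mul_single_zero (0 : Fin (d + 4)) iP rfl,
          shiftN_mul_single (iL : Fin (d + 4)) iP iP rfl,
          single_mul_shiftN (0 : Fin (d + 4)) iP iL rfl, single_mul_shiftN (iL : Fin (d + 4)) iP iL rfl,
          single_mul_shiftN (iP : Fin (d + 4)) iP iL rfl, single_mul_shiftN (iQ : Fin (d + 4)) iP iL rfl,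
          single_mul_shiftN_last (iP : Fin (d + 4)) iL rfl, single_mul_shiftN_last (iQ : Fin (d + 4)) iL rfl,
          single_mul_shiftN_last (iL : Fin (d + 4)) iL rfl, single_mul_shiftN_last (0 : Fin (d + 4)) iL rfl,
          Matrix.mul_zero, Matrix.zero_mul, add_zero, zero_add]
        ext k l
        simp only [Matrix.add_apply, Matrix.single_apply]
        split_ifs <;> ring
      show xx iQ iP hQP c * (xx iP iL hLP.symm (-1) * jordan) * xx iL 0 hZL.symm (θ : F) * xx 0 iP hZP a = _
      rw [mul_assoc _ (xx iL 0 hZL.symm (θ : F)), e1]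
      simp only [v, ← mul_assoc] at e2 ⊢
      rw [e2]
    have hv' : v ∈ H := hv
    have h := mul_mem (mul_mem hv' ha) (inv_mem hv')
    rw [e, mul_inv_cancel_right] at h
    have h2 := mul_mem (inv_mem ha) h
    rwa [inv_mul_cancel_left] at h2
  have hθ0 : (θ : F) ≠ 0 := θ.ne_zero
  -- all powers
  have hpow : ∀ k : ℕ, xx 0 iP hZP ((θ : F) ^ k) ∈ H := by
    intro k
    induction k with
    | zero => simpa using hX
    | succ k ih =>
      have hLPθ := stepV 1 hX
      rw [mul_one] at hLPθ
      have := comm_mem hZL hLP hZP (stepU _ ih) hLPθ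
      rwa [← pow_succ] at this
  have hZPall := xx_all_of_powers hZP hθ hpow
  have hZLall : ∀ a, xx 0 iL hZL a ∈ H := fun a => stepU a (hZPall a)
  have hLPall : ∀ a, xx iL iP hLP a ∈ H := fun a => by
    have := stepV ((θ : F)⁻¹ * a) (hZPall _)
    rwa [mul_inv_cancel_left₀ hθ0] at this
  -- the Weyl element of the last block
  have hPLall : ∀ a, xx iP iL hLP.symm a ∈ H := by
    intro a
    set W : Mat := 1 - single iL iP 1 - single iL iL 1 - single iP iP 1 + single iP iL 1
    have eW : (xx iL iP hLP (-2 : F) * (jordan * xx iL iP hLP (-1) * (jordan)⁻¹)).1 = W := by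
      have h1 : (jordan : SL).1 * (xx iL iP hLP (-1 : F)).1 =
          (1 + (- single iL iP 1 + single iL iL 1 - single iP iP 1 + single iP iL 1)) *
            (1 + shiftN) := by
        simp only [coe_xx, coe_jordan, ← Matrix.single_neg, Matrix.mul_add,
          Matrix.add_mul, Matrix.sub_mul, Matrix.neg_mul, Matrix.mul_neg, Matrix.mul_one, Matrix.one_mul,
          shiftN_mul_single (iL : Fin (d + 4)) iP iP rfl,
          single_mul_shiftN (iL : Fin (d + 4)) iP iL rfl,
          single_mul_shiftN (iP : Fin (d + 4)) iP iL rfl,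
          single_mul_shiftN_last (iP : Fin (d + 4)) iL rfl,
          single_mul_shiftN_last (iL : Fin (d + 4)) iL rfl]
        abel
      have h2 : (jordan * xx iL iP hLP (-1 : F) * (jordan)⁻¹).1 =
          1 + (- single iL iP 1 + single iL iL 1 - single iP iP 1 + single iP iL 1) := by
        rw [SpecialLinearGroup.coe_mul, SpecialLinearGroup.coe_mul, h1, Matrix.mul_assoc,
          ← coe_jordan, ← SpecialLinearGroup.coe_mul, mul_inv_cancel, SpecialLinearGroup.coe_one,
          Matrix.mul_one]
      rw [SpecialLinearGroup.coe_mul, h2, coe_xx]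
      simp only [W, Matrix.mul_add, Matrix.add_mul, Matrix.mul_sub, Matrix.mul_neg, Matrix.mul_one,
        Matrix.one_mul, Matrix.single_mul_single_same, Matrix.single_mul_single_of_ne _ _ _ _ hLP.symm]
      ext k l
      simp only [Matrix.add_apply, Matrix.sub_apply, Matrix.neg_apply, Matrix.zero_apply,
        Matrix.single_apply]
      split_ifs <;> ring
    set w := xx iL iP hLP (-2 : F) * (jordan * xx iL iP hLP (-1) * (jordan)⁻¹)
    have hw : w ∈ H := mul_mem (hLPall _) (mul_mem (mul_mem hu (hLPall _)) (inv_mem hu))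
    have e : w * xx iL iP hLP (-a) = xx iP iL hLP.symm a * w := by
      apply Subtype.ext
      rw [SpecialLinearGroup.coe_mul, SpecialLinearGroup.coe_mul (xx iP iL hLP.symm a), eW, coe_xx, coe_xx]
      simp only [W, Matrix.mul_add, Matrix.add_mul, Matrix.mul_sub, Matrix.sub_mul, Matrix.mul_one,
        Matrix.one_mul, Matrix.single_mul_single_same, Matrix.single_mul_single_of_ne _ _ _ _ hLP.symm,
        Matrix.single_mul_single_of_ne _ _ _ _ hLP]
      ext k l
      simp only [Matrix.add_apply, Matrix.sub_apply, Matrix.zero_apply, Matrix.single_apply]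
      split_ifs <;> ring
    have h := mul_mem (mul_mem hw (hLPall (-a))) (inv_mem hw)
    rwa [e, mul_inv_cancel_right] at h
  -- the Jordan block on the first `n - 1` coordinates
  set u' := xx iP iL hLP.symm (-1 : F) * jordan
  have hu' : u' ∈ H := mul_mem (hPLall _) hu
  have hu'coe : u'.1 = (1 + shiftN - single iP iL 1 : Mat) := by
    simp only [u', SpecialLinearGroup.coe_mul, coe_xx, coe_jordan, Matrix.mul_add, Matrix.add_mul,
      Matrix.mul_one, Matrix.one_mul, single_mul_shiftN_last (iP : Fin (d + 4)) iL rfl,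
      ← Matrix.single_neg, Matrix.neg_mul]
    abel
  have hθLZ : xx iL 0 hZL.symm (θ : F) ∈ H := by
    have h1 := mul_mem (inv_mem hu') hv
    by_cases hc : c = 0
    · rw [hc, xx_zero, one_mul, inv_mul_cancel_left] at h1
      exact h1
    · have hQP' : xx iQ iP hQP c ∈ H := by
        -- from the column below
        have hQL' : ∀ a, xx iQ iL hQL a ∈ H := by
          intro a
          have e : u' * xx iP iL hLP.symm a = xx iP iL hLP.symm a * xx iQ iL hQL a * u' := by
            apply Subtype.ext
            simp only [SpecialLinearGroup.coe_mul, coe_xx, hu'coe, Matrix.mul_add, Matrix.add_mul,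
              Matrix.mul_one, Matrix.one_mul, Matrix.sub_mul, Matrix.mul_sub,
              shiftN_mul_single (iP : Fin (d + 4)) iQ iL rfl,
              single_mul_shiftN_last (iP : Fin (d + 4)) iL rfl,
              single_mul_shiftN_last (iQ : Fin (d + 4)) iL rfl,
              Matrix.single_mul_single_of_ne _ _ _ _ hLP, Matrix.single_mul_single_of_ne _ _ _ _ hQL.symm,
              Matrix.zero_mul, add_zero, sub_zero]
            abel
          have h := mul_mem (mul_mem hu' (hPLall a)) (inv_mem hu')
          rw [e, mul_inv_cancel_right] at h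
          have h2 := mul_mem (inv_mem (hPLall a)) h
          rwa [inv_mul_cancel_left] at h2
        have := comm_mem hQL hLP hQP (hQL' c) (hLPall 1)
        rwa [mul_one] at this
      have h2 := mul_mem (inv_mem hQP') hv
      rw [mul_assoc, inv_mul_cancel_left] at h2
      have h3 := mul_mem (inv_mem hu') h2
      rwa [inv_mul_cancel_left] at h3
  have hPZall : ∀ a, xx iP 0 hZP.symm a ∈ H := fun a => by
    have := comm_mem hLP.symm hZL.symm hZP.symm (hPLall (a * (θ : F)⁻¹)) hθLZ
    rwa [inv_mul_cancel_right₀ hθ0] at this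
  have hLZall : ∀ a, xx iL 0 hZL.symm a ∈ H := fun a => by
    have := comm_mem hLP hZP.symm hZL.symm (hLPall a) (hPZall 1)
    rwa [mul_one] at this
  -- the last column
  have hcol : ∀ r : ℕ, ∀ k : Fin (d + 4), k.val + r = d + 2 → ∀ (hk : k ≠ iL) (a : F),
      xx k iL hk a ∈ H := by
    intro r
    induction r with
    | zero =>
      intro k hk hkL a
      obtain rfl : k = iP := Fin.ext (by simpa using hk)
      exact hPLall a
    | succ r ih =>
      intro k hk hkL a
      set k' : Fin (d + 4) := ⟨k.val + 1, by omega⟩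
      have hk'L : k' ≠ iL := fun e => by
        have := congrArg Fin.val e; simp [k'] at this; omega
      have hne : iL ≠ k := hkL.symm
      have e : u' * xx k' iL hk'L a = xx k' iL hk'L a * xx k iL hkL a * u' := by
        apply Subtype.ext
        simp only [SpecialLinearGroup.coe_mul, coe_xx, hu'coe, Matrix.mul_add, Matrix.add_mul,
          Matrix.mul_one, Matrix.one_mul, Matrix.sub_mul, Matrix.mul_sub,
          shiftN_mul_single k' k iL rfl, single_mul_shiftN_last k' iL rfl,
          single_mul_shiftN_last k iL rfl, Matrix.single_mul_single_of_ne _ _ _ _ hk'L.symm,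
          Matrix.single_mul_single_of_ne _ _ _ _ hkL.symm, Matrix.single_mul_single_of_ne _ _ _ _ hLP,
          Matrix.zero_mul, add_zero, sub_zero]
        abel
      have h1 := ih k' (by simp [k']; omega) hk'L a
      have h := mul_mem (mul_mem hu' h1) (inv_mem hu')
      rw [e, mul_inv_cancel_right] at h
      have h2 := mul_mem (inv_mem h1) h
      rwa [inv_mul_cancel_left] at h2
  -- the last row
  have hrow : ∀ r : ℕ, ∀ k : Fin (d + 4), k.val = r → ∀ (hk : iL ≠ k) (a : F),
      xx iL k hk a ∈ H := by
    intro r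
    induction r with
    | zero =>
      intro k hk hkL a
      obtain rfl : k = 0 := Fin.ext (by simpa using hk)
      exact hLZall a
    | succ r ih =>
      intro k hk hkL a
      set k' : Fin (d + 4) := ⟨r, by omega⟩
      have hkP : k.val ≤ d + 2 := by
        have : k.val ≠ d + 3 := fun e => hkL (Fin.ext (by simp [e]))
        omega
      have hLk' : iL ≠ k' := fun e => by
        have := congrArg Fin.val e; simp [k'] at this; omega
      have hk'P : k' ≠ iP := fun e => by
        have := congrArg Fin.val e; simp [k'] at this; omega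
      have e : xx iL k' hLk' a * u' = u' * (xx iL k' hLk' a * xx iL k hkL a) := by
        apply Subtype.ext
        simp only [SpecialLinearGroup.coe_mul, coe_xx, hu'coe, Matrix.mul_add, Matrix.add_mul,
          Matrix.mul_one, Matrix.one_mul, Matrix.sub_mul, Matrix.mul_sub,
          single_mul_shiftN iL k' k (show k'.val + 1 = k.val by simp [k', hk]),
          shiftN_mul_single (iL : Fin (d + 4)) iP k' rfl, shiftN_mul_single (iL : Fin (d + 4)) iP k rfl,
          Matrix.single_mul_single_same, Matrix.single_mul_single_of_ne _ _ _ _ hLk'.symm,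
          Matrix.single_mul_single_of_ne _ _ _ _ hk'P, one_mul, Matrix.mul_zero,
          Matrix.zero_mul, add_zero, sub_zero]
        abel
      have h1 := ih k' rfl hLk' a
      have h := mul_mem (inv_mem hu') (mul_mem h1 hu')
      rw [e, inv_mul_cancel_left] at h
      have h2 := mul_mem (inv_mem h1) h
      rwa [inv_mul_cancel_left] at h2
  have hC : ∀ (k : Fin (d + 4)) (hk : k ≠ iL) (a : F), xx k iL hk a ∈ H := fun k hk a => by
    have : k.val ≠ d + 3 := fun e => hk (Fin.ext e)
    exact hcol (d + 2 - k.val) k (by omega) hk a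
  refine eq_top_of_xx (by omega) fun i j hij a => ?_
  by_cases hi : i = iL
  · subst hi; exact hrow _ j rfl hij a
  by_cases hj : j = iL
  · subst hj; exact hC i hij a
  have := comm_mem hi (Ne.symm hj) hij (hC i hi a) (hrow _ j rfl (Ne.symm hj) 1)
  rwa [mul_one] at this

/-- The monomial matrix conjugating the Jordan block into the third generator. -/
def monom (s θ : F) : Mat := Matrix.of fun i j =>
  if (if i.val = d + 3 then 0 else i.val + 1) = j.val then
    (if j.val = 0 then θ else if j.val = d + 3 then s * θ⁻¹ else 1) else 0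

theorem exists_third (θ : Fˣ) :
    ∃ (c : F) (g : SL), g * jordan * g⁻¹ =
      xx iQ iP (by simp [Fin.ext_iff]) c *
        (xx iP iL (by simp [Fin.ext_iff]) (-1) * jordan) *
        xx iL 0 (by simp [Fin.ext_iff]) (θ : F) := by
  classical
  set π : Equiv.Perm (Fin (d + 4)) := finRotate (d + 4)
  set s : F := ((Equiv.Perm.sign π : ℤ) : F) with hs
  have hs2 : s * s = 1 := by
    rw [hs, ← Int.cast_mul, Int.units_coe_mul_self, Int.cast_one]
  set t : Fin (d + 4) → F := fun j => if j.val = 0 then (θ : F) else if j.val = d + 3 then s * (θ : F)⁻¹ else 1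
  have hπ : ∀ i, (π i).val = if i.val = d + 3 then 0 else i.val + 1 := by
    intro i
    simp only [π, coe_finRotate, Fin.ext_iff, Fin.val_last]
  have hmon : monom s (θ : F) = π.permMatrix F * diagonal t := by
    ext i j
    rw [Matrix.mul_diagonal]
    simp only [Equiv.Perm.permMatrix, PEquiv.toMatrix_apply, Equiv.toPEquiv_apply, Option.mem_def,
      Option.some_inj, monom, Matrix.of_apply, t]
    by_cases h : π i = j
    · subst h
      rw [if_pos (hπ i).symm, if_pos rfl, one_mul]
    · rw [if_neg (fun e => h (Fin.ext ((hπ i).trans e))), if_neg h, zero_mul]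
  have hprod : ∏ j, t j = s := by
    have hθ0 : (θ : F) ≠ 0 := θ.ne_zero
    rw [← Finset.prod_subset (s₁ := {0, iL}) (Finset.subset_univ _)]
    · rw [Finset.prod_pair (by simp [Fin.ext_iff])]
      simp only [t, Fin.val_zero, if_true, show ¬ (d + 3 = 0) by omega, if_false]
      field_simp
    · intro j _ hj
      simp only [Finset.mem_insert, Finset.mem_singleton, not_or, Fin.ext_iff, Fin.val_zero] at hj
      simp only [t, if_neg hj.1, if_neg hj.2]
  have hdet : (monom (d := d) s (θ : F)).det = 1 := by
    rw [hmon, Matrix.det_mul, Matrix.det_permutation, Matrix.det_diagonal, hprod]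
    exact hs2
  refine ⟨s * (θ : F) - 1, ⟨monom s (θ : F), hdet⟩, ?_⟩
  refine mul_inv_eq_iff_eq_mul.mpr ?_
  apply Subtype.ext
  show monom s (θ : F) * (1 + shiftN) =
    (1 + single iQ iP (s * (θ : F) - 1)) * ((1 + single iP iL (-1)) * (1 + shiftN)) *
      (1 + single iL 0 (θ : F)) * monom s (θ : F)
  have hM : ((1 + single iQ iP (s * (θ : F) - 1)) * ((1 + single iP iL (-1)) * (1 + shiftN)) *
      (1 + single iL 0 (θ : F)) : Mat) =
      1 + (shiftN - single iP iL 1 + single iQ iP (s * (θ : F) - 1) + single iL 0 (θ : F)) := by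
    simp only [Matrix.mul_add, Matrix.add_mul, Matrix.mul_one, Matrix.one_mul, Matrix.mul_assoc,
      ← Matrix.single_neg, Matrix.neg_mul, Matrix.mul_neg,
      single_mul_shiftN_last (iP : Fin (d + 4)) iL rfl, single_mul_shiftN (iQ : Fin (d + 4)) iP iL rfl,
      shiftN_mul_single (iL : Fin (d + 4)) iP 0 rfl, Matrix.single_mul_single_same, one_mul, mul_one,
      Matrix.single_mul_single_of_ne _ _ _ _
        (show (iP : Fin (d + 4)) ≠ iL by simp [Fin.ext_iff]), Matrix.mul_zero, Matrix.zero_mul,
      neg_zero, add_zero]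
    abel
  rw [hM]
  show monom s (θ : F) * (1 + shiftN) = (1 + _) * monom s (θ : F)
  rw [Matrix.mul_add, Matrix.mul_one, Matrix.add_mul, Matrix.one_mul, add_right_inj]
  ext i k
  rw [hmon, Matrix.mul_assoc, ← Matrix.mul_assoc _ (π.permMatrix F), Matrix.mul_diagonal,
    Equiv.Perm.permMatrix, PEquiv.toMatrix_toPEquiv_mul, PEquiv.mul_toMatrix_toPEquiv]
  simp only [Matrix.submatrix_apply, id, Matrix.diagonal_mul, Matrix.add_apply, Matrix.sub_apply,
    shiftN_apply, Matrix.single_apply, Fin.ext_iff, t]
  have hk := hπ (π.symm k)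
  rw [Equiv.apply_symm_apply] at hk
  have hi := hπ i
  have hθ0 : (θ : F) ≠ 0 := θ.ne_zero
  generalize hr : (π.symm k).val = r at hk ⊢
  generalize hw : (π i).val = w at hi ⊢
  have hr' : r < d + 4 := hr ▸ (π.symm k).isLt
  have hi' := i.isLt
  have hk' := k.isLt
  have h00 : ((0 : Fin (d + 4)) : ℕ) = 0 := rfl
  by_cases hi0 : i.val = d + 3
  all_goals simp only [hi0, if_true, if_false] at hi
  all_goals by_cases hr0 : r = d + 3
  all_goals simp only [hr0, if_true, if_false] at hk
  all_goals subst hi
  all_goals simp only [hk]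
  all_goals by_cases hr1 : r = 0
  all_goals by_cases hir : i.val + 1 = r
  all_goals by_cases hiP : i.val = d + 2
  all_goals by_cases hiQ : i.val = d + 1
  all_goals by_cases hrP : r = d + 2
  all_goals first
    | omega
    | (simp (discharger := omega) only [if_pos, if_neg, if_true, if_false]
       try split_ifs
       all_goals first
         | omega
         | rfl
         | (ring; done)
         | (field_simp; linear_combination hs2)
         | (field_simp; linear_combination -hs2)
         | (field_simp; linear_combination -(θ : F) * hs2)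
         | (field_simp; linear_combination (θ : F) * hs2))

/-- Three conjugate regular unipotent elements generate. -/
theorem three_generate [Fintype F] :
    ∃ u g h : SL, (IsNilpotent (u.1 - 1) ∧ (u.1 - 1) ^ (d + 4 - 1) ≠ 0) ∧
      Subgroup.closure ({u, g * u * g⁻¹, h * u * h⁻¹} : Set SL) = ⊤ := by
  obtain ⟨θ, hθ⟩ := IsCyclic.exists_generator (α := Fˣ)
  obtain ⟨c, h, hh⟩ := exists_third (d := d) θ
  refine ⟨jordan, xx 0 iQ (by simp [Fin.ext_iff]) 1, h, jordan_regular, ?_⟩
  refine gen_eq_top hθ c (Subgroup.subset_closure (by simp)) ?_ ?_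
  · have h1 : (jordan : SL) * xx 0 iP (by simp [Fin.ext_iff]) 1 ∈
        Subgroup.closure ({jordan, xx 0 iQ (by simp [Fin.ext_iff]) 1 * jordan *
          (xx 0 iQ (by simp [Fin.ext_iff]) 1)⁻¹, h * jordan * h⁻¹} : Set SL) := by
      have e : (xx (0 : Fin (d + 4)) iQ (by simp [Fin.ext_iff]) (1 : F)) * jordan *
          (xx 0 iQ (by simp [Fin.ext_iff]) 1)⁻¹ = jordan * xx 0 iP (by simp [Fin.ext_iff]) 1 := by
        rw [jordan_conj_eq, mul_inv_cancel_right]
      rw [← e]
      exact Subgroup.subset_closure (by simp)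
    have h2 := mul_mem (inv_mem (Subgroup.subset_closure (by simp) :
      (jordan : SL) ∈ Subgroup.closure ({jordan, xx 0 iQ (by simp [Fin.ext_iff]) 1 * jordan *
          (xx 0 iQ (by simp [Fin.ext_iff]) 1)⁻¹, h * jordan * h⁻¹} : Set SL))) h1
    rwa [inv_mul_cancel_left] at h2
  · rw [← hh]
    exact Subgroup.subset_closure (by simp)

end CfsgLib.SLGen
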