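/-
Transvection centres of a subgroup of `SL_n`.
-/
import Cfsg.Agent.Lib.SLGen.Jordan

set_option autoImplicit false

namespace CfsgLib.SLCentre

open Matrix CfsgLib.PSLn

variable {F : Type*} [Field F] {n : ℕ}

local notation "SL" => Matrix.SpecialLinearGroup (Fin n) F
local notation "V" => Fin n → F

/-- The transvection `1 + c ⊗ φ` lies in `H`. -/
def HasTv (H : Subgroup SL) (c φ : V) : Prop := ∃ h : φ ⬝ᵥ c = 0, tv c φ h ∈ H

variable {H : Subgroup (Matrix.SpecialLinearGroup (Fin n) F)}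

theorem HasTv.dot {c φ : V} (h : HasTv H c φ) : φ ⬝ᵥ c = 0 := h.1

theorem tv_zero (c : V) (h : (0 : V) ⬝ᵥ c = 0) : tv c 0 h = 1 := by
  apply Subtype.ext
  rw [coe_tv, vecMulVec_zero, add_zero, SpecialLinearGroup.coe_one]

theorem HasTv.zero (c : V) : HasTv H c 0 :=
  ⟨zero_dotProduct c, by rw [tv_zero]; exact one_mem H⟩

theorem HasTv.add {c φ ψ : V} (h : HasTv H c φ) (h' : HasTv H c ψ) : HasTv H c (φ + ψ) := by
  obtain ⟨e, m⟩ := h
  obtain ⟨e', m'⟩ := h'
  have e'' : (φ + ψ) ⬝ᵥ c = 0 := by rw [add_dotProduct, e, e', add_zero]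
  refine ⟨e'', ?_⟩
  have key : tv c φ e * tv c ψ e' = tv c (φ + ψ) e'' := by
    apply Subtype.ext
    simp only [SpecialLinearGroup.coe_mul, coe_tv, Matrix.mul_add, Matrix.add_mul, Matrix.mul_one,
      Matrix.one_mul, vecMulVec_mul_vecMulVec, vecMulVec_add, e, zero_smul, vecMulVec_zero, add_zero]
    abel
  exact key ▸ mul_mem m m'

theorem HasTv.neg {c φ : V} (h : HasTv H c φ) : HasTv H c (-φ) := by
  obtain ⟨e, m⟩ := h
  have e'' : (-φ) ⬝ᵥ c = 0 := by rw [neg_dotProduct, e, neg_zero]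
  refine ⟨e'', ?_⟩
  have key : tv c φ e * tv c (-φ) e'' = 1 := by
    apply Subtype.ext
    simp only [SpecialLinearGroup.coe_mul, coe_tv, SpecialLinearGroup.coe_one, Matrix.mul_add,
      Matrix.add_mul, Matrix.mul_one, Matrix.one_mul, vecMulVec_mul_vecMulVec, vecMulVec_neg, e,
      zero_smul, vecMulVec_zero, add_zero, neg_dotProduct, dotProduct_neg, neg_zero, Matrix.mul_neg]
    abel
  exact inv_eq_of_mul_eq_one_right key ▸ inv_mem m

theorem HasTv.sub {c φ ψ : V} (h : HasTv H c φ) (h' : HasTv H c ψ) : HasTv H c (φ - ψ) := by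
  rw [sub_eq_add_neg]; exact h.add h'.neg

theorem HasTv.nsmul {c φ : V} (h : HasTv H c φ) (k : ℕ) : HasTv H c ((k : F) • φ) := by
  induction k with
  | zero => rw [Nat.cast_zero, zero_smul]; exact HasTv.zero c
  | succ k ih => rw [Nat.cast_succ, add_smul, one_smul]; exact ih.add h

/-- Scalars may be moved between the centre and the axis. -/
theorem HasTv.scale {c φ : V} {a : F} (ha : a ≠ 0) (h : HasTv H (a • c) φ) :
    HasTv H c (a • φ) := by
  obtain ⟨e, m⟩ := h
  rw [dotProduct_smul, smul_eq_zero] at e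
  refine ⟨by rw [smul_dotProduct, e.resolve_left ha, smul_zero], ?_⟩
  convert m using 1
  apply Subtype.ext
  rw [coe_tv, coe_tv, vecMulVec_smul, smul_vecMulVec]

/-- Conjugation by `g ∈ H`. -/
theorem HasTv.conj {g : SL} (hg : g ∈ H) {c φ : V} (h : HasTv H c (φ ᵥ* g.1)) :
    HasTv H (g.1 *ᵥ c) φ := by
  obtain ⟨e, m⟩ := h
  rw [← dotProduct_mulVec] at e
  refine ⟨e, ?_⟩
  have key : g * tv c (φ ᵥ* g.1) (by rw [← dotProduct_mulVec]; exact e) = tv (g.1 *ᵥ c) φ e * g := by
    apply Subtype.ext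
    rw [SpecialLinearGroup.coe_mul, SpecialLinearGroup.coe_mul, coe_tv, coe_tv, Matrix.mul_add,
      Matrix.add_mul, Matrix.mul_one, Matrix.one_mul, mul_vecMulVec, vecMulVec_mul]
  have h' := mul_mem (mul_mem hg m) (inv_mem hg)
  rwa [key, mul_inv_cancel_right] at h'

/-- Conjugation by the inverse of `g ∈ H`. -/
theorem HasTv.conj' {g : SL} (hg : g ∈ H) {c c' φ : V} (hc : g.1 *ᵥ c' = c) (h : HasTv H c φ) :
    HasTv H c' (φ ᵥ* g.1) := by
  obtain ⟨e, m⟩ := h
  subst hc
  refine ⟨by rw [← dotProduct_mulVec]; exact e, ?_⟩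
  have key : g * tv c' (φ ᵥ* g.1) (by rw [← dotProduct_mulVec]; exact e) = tv (g.1 *ᵥ c') φ e * g := by
    apply Subtype.ext
    rw [SpecialLinearGroup.coe_mul, SpecialLinearGroup.coe_mul, coe_tv, coe_tv, Matrix.mul_add,
      Matrix.add_mul, Matrix.mul_one, Matrix.one_mul, mul_vecMulVec, vecMulVec_mul]
  have h' := mul_mem (inv_mem hg) (mul_mem m hg)
  rwa [← key, inv_mul_cancel_left] at h'

/-- The commutator of two transvections with one vanishing pairing. -/
theorem HasTv.comm {a φ z ψ : V} (h : HasTv H a φ) (h' : HasTv H z ψ) (hψ : ψ ⬝ᵥ a = 0) :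
    HasTv H a ((φ ⬝ᵥ z) • ψ) := by
  obtain ⟨e, m⟩ := h
  obtain ⟨e', m'⟩ := h'
  refine ⟨by rw [smul_dotProduct, hψ, smul_zero], ?_⟩
  have key : tv a φ e * tv z ψ e' =
      tv a ((φ ⬝ᵥ z) • ψ) (by rw [smul_dotProduct, hψ, smul_zero]) * tv z ψ e' * tv a φ e := by
    apply Subtype.ext
    simp only [SpecialLinearGroup.coe_mul, coe_tv, Matrix.mul_add, Matrix.add_mul, Matrix.mul_one,
      Matrix.one_mul, vecMulVec_mul_vecMulVec, hψ, e', zero_smul, smul_dotProduct, smul_zero,
      vecMulVec_zero, Matrix.zero_mul, add_zero]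
    abel
  have h'' := mul_mem (mul_mem (mul_mem m m') (inv_mem m)) (inv_mem m')
  rwa [key, mul_inv_cancel_right, mul_inv_cancel_right] at h''

/-- All transvections with centre `c` are present. -/
def Full (H : Subgroup SL) (c : V) : Prop := ∀ φ : V, φ ⬝ᵥ c = 0 → HasTv H c φ

theorem full_zero : Full H (0 : V) := fun φ _ => by
  refine ⟨dotProduct_zero φ, ?_⟩
  convert one_mem H
  apply Subtype.ext
  rw [coe_tv, zero_vecMulVec, add_zero, SpecialLinearGroup.coe_one]

theorem full_smul {c : V} (h : Full H c) (a : F) : Full H (a • c) := fun φ hφ => by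
  by_cases ha : a = 0
  · subst ha; rw [zero_smul]; exact full_zero φ (dotProduct_zero φ)
  · rw [dotProduct_smul, smul_eq_zero] at hφ
    obtain ⟨e, m⟩ := h (a • φ) (by rw [smul_dotProduct, hφ.resolve_left ha, smul_zero])
    refine ⟨by rw [dotProduct_smul, hφ.resolve_left ha, smul_zero], ?_⟩
    convert m using 1
    apply Subtype.ext
    rw [coe_tv, coe_tv, vecMulVec_smul, smul_vecMulVec]

theorem exists_dual_pair {c c' : V} (hc : c ≠ 0) (hli : ∀ a : F, c' ≠ a • c) :
    ∃ φ : V, φ ⬝ᵥ c = 0 ∧ φ ⬝ᵥ c' = 1 := by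
  obtain ⟨i, hi⟩ := Function.ne_iff.mp hc
  obtain ⟨j, hj⟩ : ∃ j, c i * c' j - c' i * c j ≠ 0 := by
    by_contra hne
    push Not at hne
    refine hli (c' i / c i) (funext fun j => ?_)
    rw [Pi.smul_apply, smul_eq_mul, div_mul_eq_mul_div, eq_div_iff hi]
    linear_combination hne j
  refine ⟨(c i * c' j - c' i * c j)⁻¹ • (c i • Pi.single j (1 : F) - c j • Pi.single i (1 : F)), ?_, ?_⟩
  · simp only [smul_dotProduct, sub_dotProduct, single_dotProduct, smul_eq_mul, one_mul]
    ring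
  · simp only [smul_dotProduct, sub_dotProduct, single_dotProduct, smul_eq_mul, one_mul]
    rw [show c i * c' j - c j * c' i = c i * c' j - c' i * c j by ring, inv_mul_cancel₀ hj]

theorem full_conj {g : SL} (hg : g ∈ H) {c : V} (h : Full H c) : Full H (g.1 *ᵥ c) := fun φ hφ =>
  (h (φ ᵥ* g.1) (by rw [← dotProduct_mulVec]; exact hφ)).conj hg

theorem full_add {c c' : V} (h : Full H c) (h' : Full H c') : Full H (c + c') := by
  by_cases hc : c = 0
  · rwa [hc, zero_add]
  by_cases hd : ∃ a : F, c' = a • c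
  · obtain ⟨a, rfl⟩ := hd
    rw [show c + a • c = (1 + a) • c by rw [add_smul, one_smul]]
    exact full_smul h _
  push Not at hd
  obtain ⟨φ, h0, h1⟩ := exists_dual_pair hc hd
  obtain ⟨e, m⟩ := h φ h0
  have := full_conj m h'
  rwa [coe_tv, add_mulVec, one_mulVec, vecMulVec_mulVec, h1, MulOpposite.op_one, one_smul,
    add_comm] at this

/-- The centres form a submodule. -/
def fullSubmodule (H : Subgroup SL) : Submodule F V where
  carrier := {c | Full H c}
  add_mem' := full_add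
  zero_mem' := full_zero
  smul_mem' := fun a _ h => full_smul h a

theorem eq_top_of_full (hn : 2 ≤ n) (h : fullSubmodule H = ⊤) : H = ⊤ := by
  refine SLGen.eq_top_of_xx hn fun i j hij a => ?_
  have hi : Full H (a • Pi.single i (1 : F)) := by
    have : a • (Pi.single i (1 : F)) ∈ fullSubmodule H := h ▸ Submodule.mem_top
    exact this
  obtain ⟨e, m⟩ := hi (Pi.single j 1) (dot_single_ne hij a)
  rw [xx_eq_tv]
  exact m

end CfsgLib.SLCentre
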