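/-
Generation of `SL_3` by two conjugate regular unipotent elements.
-/
import Mathlib.FieldTheory.Finite.Basic
import Mathlib.Algebra.CharP.Two
import Cfsg.Agent.Lib.SLGen.Jordan

set_option autoImplicit false

namespace CfsgLib.SLGen3

open Matrix CfsgLib.PSLn

variable {F : Type*} [Field F]

local notation "SL3" => Matrix.SpecialLinearGroup (Fin 3) F

abbrev x01 (a : F) : SL3 := xx 0 1 (by decide) a
abbrev x02 (a : F) : SL3 := xx 0 2 (by decide) a
abbrev x10 (a : F) : SL3 := xx 1 0 (by decide) a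
abbrev x12 (a : F) : SL3 := xx 1 2 (by decide) a
abbrev x20 (a : F) : SL3 := xx 2 0 (by decide) a
abbrev x21 (a : F) : SL3 := xx 2 1 (by decide) a

theorem coe_x01 (a : F) : (x01 a).1 = !![1, a, 0; 0, 1, 0; 0, 0, 1] := by
  rw [coe_xx]; ext i j; fin_cases i <;> fin_cases j <;> simp [Matrix.single_apply]
theorem coe_x02 (a : F) : (x02 a).1 = !![1, 0, a; 0, 1, 0; 0, 0, 1] := by
  rw [coe_xx]; ext i j; fin_cases i <;> fin_cases j <;> simp [Matrix.single_apply]
theorem coe_x10 (a : F) : (x10 a).1 = !![1, 0, 0; a, 1, 0; 0, 0, 1] := by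
  rw [coe_xx]; ext i j; fin_cases i <;> fin_cases j <;> simp [Matrix.single_apply]
theorem coe_x12 (a : F) : (x12 a).1 = !![1, 0, 0; 0, 1, a; 0, 0, 1] := by
  rw [coe_xx]; ext i j; fin_cases i <;> fin_cases j <;> simp [Matrix.single_apply]
theorem coe_x20 (a : F) : (x20 a).1 = !![1, 0, 0; 0, 1, 0; a, 0, 1] := by
  rw [coe_xx]; ext i j; fin_cases i <;> fin_cases j <;> simp [Matrix.single_apply]
theorem coe_x21 (a : F) : (x21 a).1 = !![1, 0, 0; 0, 1, 0; 0, a, 1] := by
  rw [coe_xx]; ext i j; fin_cases i <;> fin_cases j <;> simp [Matrix.single_apply]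

theorem eq_top3 {H : Subgroup SL3} (h01 : ∀ a, x01 a ∈ H) (h02 : ∀ a, x02 a ∈ H)
    (h10 : ∀ a, x10 a ∈ H) (h12 : ∀ a, x12 a ∈ H) (h20 : ∀ a, x20 a ∈ H) (h21 : ∀ a, x21 a ∈ H) :
    H = ⊤ := by
  refine SLGen.eq_top_of_xx (by norm_num) fun i j hij a => ?_
  fin_cases i <;> fin_cases j
  all_goals first
    | exact absurd rfl hij
    | exact h01 a
    | exact h02 a
    | exact h10 a
    | exact h12 a
    | exact h20 a
    | exact h21 a

/-- A unipotent element, regular when `s ≠ 0`. -/
def uR (r s : F) : SL3 :=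
  ⟨!![2 - r, 0, -(r - 1) ^ 2; 0, 1, s; 1, 0, r], by
    rw [Matrix.det_fin_three]; simp; ring⟩

theorem coe_uR (r s : F) : (uR r s).1 = !![2 - r, 0, -(r - 1) ^ 2; 0, 1, s; 1, 0, r] := rfl

/-- Its inverse. -/
def uI (r s : F) : SL3 :=
  ⟨!![r, 0, (r - 1) ^ 2; s, 1, s * (r - 2); -1, 0, 2 - r], by
    rw [Matrix.det_fin_three]; simp; ring⟩

theorem coe_uI (r s : F) :
    (uI r s).1 = !![r, 0, (r - 1) ^ 2; s, 1, s * (r - 2); -1, 0, 2 - r] := rfl

theorem uI_eq (r s : F) : (uR r s)⁻¹ = uI r s := by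
  refine inv_eq_of_mul_eq_one_right (Subtype.ext ?_)
  rw [SpecialLinearGroup.coe_mul, coe_uR, coe_uI, SpecialLinearGroup.coe_one]
  ext i j
  fin_cases i <;> fin_cases j <;> simp [Matrix.mul_apply, Fin.sum_univ_three] <;>
        first | (ring; done) | (ring_nf; simp; done)

theorem uR_regular {r s : F} (hs : s ≠ 0) :
    IsNilpotent ((uR r s).1 - 1) ∧ ((uR r s).1 - 1) ^ (3 - 1) ≠ 0 := by
  refine ⟨⟨3, ?_⟩, fun h => ?_⟩
  · rw [coe_uR, pow_succ, pow_succ, pow_one]
    ext i j
    fin_cases i <;> fin_cases j <;> simp [Matrix.mul_apply, Fin.sum_univ_three] <;>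
        first | (ring; done) | (ring_nf; simp; done)
  · have h' := congrFun (congrFun h 1) 0
    rw [coe_uR, show (3 : ℕ) - 1 = 2 from rfl, pow_two] at h'
    simp [Matrix.mul_apply, Fin.sum_univ_three] at h'
    exact hs h'

/-- The product of the two generators. -/
def mA (α : F) (hα : α ≠ 0) : SL3 :=
  ⟨!![α, 1, 0; 0, α, 0; 0, 0, (α⁻¹) ^ 2], by
    rw [Matrix.det_fin_three]; simp; field_simp⟩

theorem coe_mA (α : F) (hα : α ≠ 0) :
    (mA α hα).1 = !![α, 1, 0; 0, α, 0; 0, 0, (α⁻¹) ^ 2] := rfl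

theorem mA_pow (α : F) (hα : α ≠ 0) (n : ℕ) : (mA α hα ^ n).1 =
    !![α ^ n, (n : F) * α ^ n * α⁻¹, 0; 0, α ^ n, 0; 0, 0, ((α⁻¹) ^ 2) ^ n] := by
  induction n with
  | zero => ext i j; fin_cases i <;> fin_cases j <;> simp
  | succ n ih =>
    rw [pow_succ, SpecialLinearGroup.coe_mul, ih, coe_mA]
    ext i j
    fin_cases i <;> fin_cases j <;> simp [Matrix.mul_apply, Fin.sum_univ_three, pow_succ] <;>
      field_simp <;> first | (ring; done) | (ring_nf; simp; done)

/-- The conjugating element. -/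
def gA (α r s : F) (hα : α ≠ 0) (hs : s ≠ 0) : SL3 :=
  ⟨!![-α⁻¹, (α - 1) * (r * α ^ 2 - 1) / (α ^ 2 * s), (2 - r) * α⁻¹ - r; 0, -1, -s;
      0, (1 - α) / s, 1], by
    rw [Matrix.det_fin_three]; simp; field_simp; ring⟩

theorem coe_gA (α r s : F) (hα : α ≠ 0) (hs : s ≠ 0) :
    (gA α r s hα hs).1 =
      !![-α⁻¹, (α - 1) * (r * α ^ 2 - 1) / (α ^ 2 * s), (2 - r) * α⁻¹ - r; 0, -1, -s;
        0, (1 - α) / s, 1] := rfl

/-- The product of the unipotent element and its conjugate. -/
theorem gA_spec {α : F} (hα : α ≠ 0) {r s : F} (hr : α ^ 2 + α + 1 ≠ 0)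
    (hrdef : r = 3 / (α ^ 2 + α + 1)) (hsdef : s = -(α - 1) ^ 3 / α ^ 2) (hs : s ≠ 0) :
    uR r s * (gA α r s hα hs * uR r s * (gA α r s hα hs)⁻¹) = mA α hα := by
  have h1 : α - 1 ≠ 0 := by
    intro h; apply hs; rw [hsdef, h]; simp
  suffices uR r s * (gA α r s hα hs * uR r s) = mA α hα * gA α r s hα hs by
    rw [← mul_assoc (uR r s), this, mul_inv_cancel_right]
  apply Subtype.ext
  simp only [SpecialLinearGroup.coe_mul, coe_uR, coe_gA, coe_mA]
  have hr3 : r * (α ^ 2 + α + 1) = 3 := by rw [hrdef, div_mul_cancel₀ _ hr]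
  have hs3 : s * α ^ 2 = -(α - 1) ^ 3 := by rw [hsdef, div_mul_cancel₀ _ (pow_ne_zero 2 hα)]
  have h3 : (1 - α : F) ≠ 0 := fun h => h1 (by linear_combination -h)
  ext i j
  fin_cases i <;> fin_cases j <;> simp [Matrix.mul_apply, Fin.sum_univ_three] <;>
    field_simp <;>
    first
      | (ring; done)
      | linear_combination hs3 - (α - 1) ^ 2 * hr3
      | linear_combination hs3 + (α - 1) * hr3

section odd


/-- An additive condition closed under multiplication by a ring generator. -/
theorem all_of_scalar {P : F → Prop} (hadd : ∀ a b, P a → P b → P (a + b))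
    (hneg : ∀ a, P a → P (-a)) {γ : F} (hγ : Subring.closure ({γ} : Set F) = ⊤)
    (hmul : ∀ a, P a → P (γ * a)) {ν : F} (hν : ν ≠ 0) (h : P ν) (z : F) : P z := by
  have key : ∀ c ∈ Subring.closure ({γ} : Set F), ∀ a, P a → P (c * a) := by
    intro c hc
    induction hc using Subring.closure_induction with
    | mem x hx => rw [Set.mem_singleton_iff.mp hx]; exact hmul
    | zero =>
      intro a ha; rw [zero_mul]
      simpa using hadd _ _ ha (hneg _ ha)
    | one => intro a ha; rwa [one_mul]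
    | add x y _ _ hx hy => intro a ha; rw [add_mul]; exact hadd _ _ (hx a ha) (hy a ha)
    | neg x _ hx => intro a ha; rw [neg_mul]; exact hneg _ (hx a ha)
    | mul x y _ _ hx hy => intro a ha; rw [mul_assoc]; exact hx _ (hy a ha)
  have h' := key (z * ν⁻¹) (hγ ▸ Subring.mem_top _) ν h
  rwa [inv_mul_cancel_right₀ hν] at h'

theorem top_of_uR_mA [Fintype F] {H : Subgroup SL3} {α r s : F} (hα : α ≠ 0) (hs : s ≠ 0)
    (hδ : Subring.closure ({α ^ 3} : Set F) = ⊤) (hγ : Subring.closure ({(α⁻¹) ^ 3} : Set F) = ⊤)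
    (hα3 : α ^ 3 ≠ 1) (hu : uR r s ∈ H) (hM : mA α hα ∈ H) : H = ⊤ := by
  classical
  -- a transvection
  obtain ⟨t, ht0, ht⟩ : ∃ t : F, t ≠ 0 ∧ x01 t ∈ H := by
    refine ⟨-α⁻¹, neg_ne_zero.mpr (inv_ne_zero hα), ?_⟩
    have e : mA α hα ^ (Fintype.card F - 1) = x01 (-α⁻¹) := by
      apply Subtype.ext
      rw [mA_pow, coe_x01, FiniteField.pow_card_sub_one_eq_one α hα,
        FiniteField.pow_card_sub_one_eq_one _ (pow_ne_zero 2 (inv_ne_zero hα)),
        Nat.cast_sub Fintype.card_pos, FiniteField.cast_card_eq_zero]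
      ext i j
      fin_cases i <;> fin_cases j <;> simp
    exact e ▸ pow_mem hM _
  -- a transvection with the same axis
  have hE : x01 (t * t * s * (2 - r)) * x21 (t * t * s) ∈ H := by
    have e : uR r s * x01 t * uI r s * x01 t * (uR r s * x01 (-t) * uI r s) * x01 (-t) =
        x01 (t * t * s * (2 - r)) * x21 (t * t * s) := by
      apply Subtype.ext
      simp only [SpecialLinearGroup.coe_mul, coe_uR, coe_uI, coe_x01, coe_x21]
      ext i j
      fin_cases i <;> fin_cases j <;> simp [Matrix.mul_apply, Fin.sum_univ_three] <;>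
        first | (ring; done) | (ring_nf; simp; done)
    have hui : uI r s ∈ H := uI_eq r s ▸ inv_mem hu
    have ht' : x01 (-t) ∈ H := by rw [show x01 (-t) = (x01 t)⁻¹ from (xx_inv _ _ _ t).symm]; exact inv_mem ht
    rw [← e]
    exact mul_mem (mul_mem (mul_mem (mul_mem (mul_mem hu ht) hui) ht)
      (mul_mem (mul_mem hu ht') hui)) ht'
  set ν := t * t * s with hν
  have hν0 : ν ≠ 0 := mul_ne_zero (mul_ne_zero ht0 ht0) hs
  have hγ1 : (α⁻¹) ^ 3 - 1 ≠ 0 := by
    rw [inv_pow, sub_ne_zero]; exact fun h => hα3 (inv_eq_one.mp h)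
  have h21 : ∀ z, x21 z ∈ H := by
    have hmul : ∀ a, x21 a ∈ H → x21 ((α⁻¹) ^ 3 * a) ∈ H := by
      intro a ha
      have e : mA α hα * x21 a = x21 ((α⁻¹) ^ 3 * a) * mA α hα := by
        apply Subtype.ext
        simp only [SpecialLinearGroup.coe_mul, coe_mA, coe_x21]
        ext i j
        fin_cases i <;> fin_cases j <;> simp [Matrix.mul_apply, Fin.sum_univ_three] <;>
          field_simp <;> first | (ring; done) | (ring_nf; simp; done)
      have h := mul_mem (mul_mem hM ha) (inv_mem hM)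
      rwa [e, mul_inv_cancel_right] at h
    have h0 : x21 (ν * ((α⁻¹) ^ 3 - 1)) ∈ H := by
      have e : mA α hα * (x01 (ν * (2 - r)) * x21 ν) =
          x21 (ν * ((α⁻¹) ^ 3 - 1)) * (x01 (ν * (2 - r)) * x21 ν) * mA α hα := by
        apply Subtype.ext
        simp only [SpecialLinearGroup.coe_mul, coe_mA, coe_x01, coe_x21]
        ext i j
        fin_cases i <;> fin_cases j <;> simp [Matrix.mul_apply, Fin.sum_univ_three] <;>
          field_simp <;> first | (ring; done) | (ring_nf; simp; done)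
      have h := mul_mem (mul_mem (mul_mem hM hE) (inv_mem hM)) (inv_mem hE)
      rwa [e, mul_inv_cancel_right, mul_inv_cancel_right] at h
    exact all_of_scalar (P := fun z => x21 z ∈ H)
      (fun a b ha hb => by rw [show x21 (a + b) = x21 a * x21 b from xx_add _ _ _ a b]
                           exact mul_mem ha hb)
      (fun a ha => by rw [show x21 (-a) = (x21 a)⁻¹ from (xx_inv _ _ _ a).symm]; exact inv_mem ha)
      hγ hmul (mul_ne_zero hν0 hγ1) h0
  have h02 : ∀ z, x02 z ∈ H := by
    have hmul : ∀ a, x02 a ∈ H → x02 (α ^ 3 * a) ∈ H := by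
      intro a ha
      have e : mA α hα * x02 a = x02 (α ^ 3 * a) * mA α hα := by
        apply Subtype.ext
        simp only [SpecialLinearGroup.coe_mul, coe_mA, coe_x02]
        ext i j
        fin_cases i <;> fin_cases j <;> simp [Matrix.mul_apply, Fin.sum_univ_three] <;>
          field_simp <;> first | (ring; done) | (ring_nf; simp; done)
      have h := mul_mem (mul_mem hM ha) (inv_mem hM)
      rwa [e, mul_inv_cancel_right] at h
    have hE' : x01 ν * x02 (ν * s) ∈ H := by
      have e : uR r s * (x01 ν * x02 (ν * s)) = (x01 (ν * (2 - r)) * x21 ν) * uR r s := by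
        apply Subtype.ext
        simp only [SpecialLinearGroup.coe_mul, coe_uR, coe_x01, coe_x02, coe_x21]
        ext i j
        fin_cases i <;> fin_cases j <;> simp [Matrix.mul_apply, Fin.sum_univ_three] <;>
        first | (ring; done) | (ring_nf; simp; done)
      have h := mul_mem (inv_mem hu) (mul_mem hE hu)
      rwa [← e, inv_mul_cancel_left] at h
    have h0 : x02 (ν * s * (α ^ 3 - 1)) ∈ H := by
      have e : mA α hα * (x01 ν * x02 (ν * s)) =
          x02 (ν * s * (α ^ 3 - 1)) * (x01 ν * x02 (ν * s)) * mA α hα := by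
        apply Subtype.ext
        simp only [SpecialLinearGroup.coe_mul, coe_mA, coe_x01, coe_x02]
        ext i j
        fin_cases i <;> fin_cases j <;> simp [Matrix.mul_apply, Fin.sum_univ_three] <;>
          field_simp <;> first | (ring; done) | (ring_nf; simp; done)
      have h := mul_mem (mul_mem (mul_mem hM hE') (inv_mem hM)) (inv_mem hE')
      rwa [e, mul_inv_cancel_right, mul_inv_cancel_right] at h
    exact all_of_scalar (P := fun z => x02 z ∈ H)
      (fun a b ha hb => by rw [show x02 (a + b) = x02 a * x02 b from xx_add _ _ _ a b]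
                           exact mul_mem ha hb)
      (fun a ha => by rw [show x02 (-a) = (x02 a)⁻¹ from (xx_inv _ _ _ a).symm]; exact inv_mem ha)
      hδ hmul (mul_ne_zero (mul_ne_zero hν0 hs) (sub_ne_zero.mpr hα3)) h0
  have h01 : ∀ z, x01 z ∈ H := fun z => by
    have := SLGen.comm_mem (i := 0) (j := 2) (k := 1) (by decide) (by decide) (by decide)
      (h02 z) (h21 1)
    rwa [mul_one] at this
  have h20 : ∀ z, x20 z ∈ H := fun z => by
    have e : x20 z * (x02 (r - 2) * uR r s) = x02 (r - 2) * uR r s * x02 (-z) := by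
      apply Subtype.ext
      simp only [SpecialLinearGroup.coe_mul, coe_uR, coe_x02, coe_x20]
      ext i j
      fin_cases i <;> fin_cases j <;> simp [Matrix.mul_apply, Fin.sum_univ_three] <;>
        first | (ring; done) | (ring_nf; simp; done)
    have hg := mul_mem (h02 (r - 2)) hu
    have h := mul_mem (mul_mem hg (h02 (-z))) (inv_mem hg)
    rwa [← e, mul_inv_cancel_right] at h
  set L := x01 ((r - 1) ^ 2 / s) * x21 (-r / s) * uR r s with hL
  have hLmem : L ∈ H := mul_mem (mul_mem (h01 _) (h21 _)) hu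
  have hP : ∀ a, x10 (a * s * r) * x12 (a * s * (r - 1) ^ 2) ∈ H := fun a => by
    have e : L * x20 a = x10 (a * s * r) * x12 (a * s * (r - 1) ^ 2) * L := by
      apply Subtype.ext
      simp only [hL, SpecialLinearGroup.coe_mul, coe_uR, coe_x01, coe_x10, coe_x12, coe_x20, coe_x21]
      ext i j
      fin_cases i <;> fin_cases j <;> simp [Matrix.mul_apply, Fin.sum_univ_three] <;>
        field_simp <;> first | (ring; done) | (ring_nf; simp; done)
    have h := mul_mem (mul_mem hLmem (h20 a)) (inv_mem hLmem)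
    rwa [e, mul_inv_cancel_right] at h
  have hQ : ∀ a, x10 (a * s ^ 2) * x12 (a * s ^ 2 * (r - 2)) ∈ H := fun a => by
    have e : L * x21 a = x10 (a * s ^ 2) * x12 (a * s ^ 2 * (r - 2)) * L := by
      apply Subtype.ext
      simp only [hL, SpecialLinearGroup.coe_mul, coe_uR, coe_x01, coe_x10, coe_x12, coe_x21]
      ext i j
      fin_cases i <;> fin_cases j <;> simp [Matrix.mul_apply, Fin.sum_univ_three] <;>
        field_simp <;> first | (ring; done) | (ring_nf; simp; done)
    have h := mul_mem (mul_mem hLmem (h21 a)) (inv_mem hLmem)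
    rwa [e, mul_inv_cancel_right] at h
  refine eq_top3 h01 h02 (fun z => ?_) (fun z => ?_) h20 h21
  · have h := mul_mem (hP ((2 - r) * z / s)) (hQ (z * (r - 1) ^ 2 / s ^ 2))
    convert h using 1
    apply Subtype.ext
    simp only [SpecialLinearGroup.coe_mul, coe_x10, coe_x12]
    ext i j
    fin_cases i <;> fin_cases j <;> simp [Matrix.mul_apply, Fin.sum_univ_three] <;>
      field_simp <;> first | (ring; done) | (ring_nf; simp; done)
  · have h := mul_mem (hP (z / s)) (hQ (-(z * r) / s ^ 2))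
    convert h using 1
    apply Subtype.ext
    simp only [SpecialLinearGroup.coe_mul, coe_x10, coe_x12]
    ext i j
    fin_cases i <;> fin_cases j <;> simp [Matrix.mul_apply, Fin.sum_univ_three] <;>
      field_simp <;> first | (ring; done) | (ring_nf; simp; done)

end odd

section two

/-- The Jordan block. -/
def u0 : SL3 := ⟨!![1, 1, 0; 0, 1, 1; 0, 0, 1], by rw [Matrix.det_fin_three]; simp⟩

theorem coe_u0 : (u0 : SL3).1 = !![1, 1, 0; 0, 1, 1; 0, 0, 1] := rfl

theorem u0_regular : IsNilpotent ((u0 : SL3).1 - 1) ∧ ((u0 : SL3).1 - 1) ^ (3 - 1) ≠ 0 := by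
  refine ⟨⟨3, ?_⟩, fun h => ?_⟩
  · rw [coe_u0, pow_succ, pow_succ, pow_one]
    ext i j
    fin_cases i <;> fin_cases j <;> simp [Matrix.mul_apply, Fin.sum_univ_three]
  · have h' := congrFun (congrFun h 0) 2
    rw [coe_u0, show (3 : ℕ) - 1 = 2 from rfl, pow_two] at h'
    simp [Matrix.mul_apply, Fin.sum_univ_three] at h'

/-- The cyclic monomial element. -/
def g0 (α : F) (hα : α ≠ 0) : SL3 :=
  ⟨!![0, 0, α⁻¹; α, 0, 0; 0, 1, 0], by rw [Matrix.det_fin_three]; simp [hα]⟩

theorem coe_g0 (α : F) (hα : α ≠ 0) : (g0 α hα).1 = !![0, 0, α⁻¹; α, 0, 0; 0, 1, 0] := rfl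

theorem top_of_char_two [CharP F 2] {α : F} (hα : α ≠ 0)
    (hF : ∀ z : F, z = 0 ∨ z = 1 ∨ z = α ^ 2 ∨ z = 1 + α ^ 2) :
    ∃ g : SL3, Subgroup.closure ({u0, g * u0 * g⁻¹} : Set SL3) = ⊤ := by
  classical
  refine ⟨g0 α hα, ?_⟩
  set H := Subgroup.closure ({u0, g0 α hα * u0 * (g0 α hα)⁻¹} : Set SL3)
  have hu : u0 ∈ H := Subgroup.subset_closure (by simp)
  have ev : g0 α hα * u0 * (g0 α hα)⁻¹ = x20 α * x12 α := by
    rw [mul_inv_eq_iff_eq_mul]
    apply Subtype.ext
    simp only [SpecialLinearGroup.coe_mul, coe_u0, coe_x20, coe_x12, coe_g0]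
    ext i j
    fin_cases i <;> fin_cases j <;> simp [Matrix.mul_apply, Fin.sum_univ_three, hα]
  have hv : x20 α * x12 α ∈ H := ev ▸ Subgroup.subset_closure (by simp)
  have h2 : (1 : F) + 1 = 0 := CharTwo.add_self_eq_zero 1
  have hγ0 : α ^ 2 ≠ 0 := pow_ne_zero 2 hα
  have h02_1 : x02 (1 : F) ∈ H := by
    have e : (u0 : SL3) * u0 = x02 1 := by
      apply Subtype.ext
      simp only [SpecialLinearGroup.coe_mul, coe_u0, coe_x02]
      ext i j
      fin_cases i <;> fin_cases j <;>
        simp [Matrix.mul_apply, Fin.sum_univ_three, h2, CharTwo.add_self_eq_zero]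
    exact e ▸ mul_mem hu hu
  have h10_γ : x10 (α ^ 2) ∈ H := by
    have e : x20 α * x12 α * (x20 α * x12 α) = x10 (α ^ 2) := by
      apply Subtype.ext
      simp only [SpecialLinearGroup.coe_mul, coe_x10, coe_x20, coe_x12]
      ext i j
      fin_cases i <;> fin_cases j <;>
        simp [Matrix.mul_apply, Fin.sum_univ_three, h2, CharTwo.add_self_eq_zero, pow_two]
    exact e ▸ mul_mem hv hv
  have h12γ : x12 (α ^ 2) ∈ H := by
    have := SLGen.comm_mem (i := 1) (j := 0) (k := 2) (by decide) (by decide) (by decide) h10_γ h02_1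
    rwa [mul_one] at this
  have h02_γ : x02 (α ^ 2) ∈ H := by
    have e : u0 * x10 (α ^ 2) * x02 1 = x12 (α ^ 2) * x02 (α ^ 2) * x02 1 * (u0 * x10 (α ^ 2)) * 1 := by
      apply Subtype.ext
      simp only [SpecialLinearGroup.coe_mul, coe_u0, coe_x10, coe_x02, coe_x12, mul_one]
      ext i j
      fin_cases i <;> fin_cases j <;>
        simp [Matrix.mul_apply, Fin.sum_univ_three] <;>
        first
          | ring
          | linear_combination h2
          | linear_combination (α ^ 2) * h2
          | linear_combination -(α ^ 2) * h2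
    rw [mul_one] at e
    have hy := mul_mem hu h10_γ
    have h := mul_mem (mul_mem (mul_mem hy h02_1) (inv_mem hy)) (inv_mem h02_1)
    rw [e, mul_inv_cancel_right, mul_inv_cancel_right] at h
    have h' := mul_mem (inv_mem h12γ) h
    rwa [inv_mul_cancel_left] at h'
  have span : ∀ {P : F → Prop}, (∀ a b, P a → P b → P (a + b)) → P 1 → P (α ^ 2) → ∀ z, P z := by
    intro P hadd h1 hg z
    rcases hF z with h | h | h | h <;> subst h
    · simpa [h2] using hadd 1 1 h1 h1
    · exact h1
    · exact hg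
    · exact hadd _ _ h1 hg
  have h02 : ∀ z, x02 z ∈ H := span (fun a b ha hb => by
    rw [show x02 (a + b) = x02 a * x02 b from xx_add _ _ _ a b]; exact mul_mem ha hb) h02_1 h02_γ
  have h12 : ∀ z, x12 z ∈ H := fun z => by
    have := SLGen.comm_mem (i := 1) (j := 0) (k := 2) (by decide) (by decide) (by decide) h10_γ
      (h02 (z / α ^ 2))
    rwa [mul_div_cancel₀ z hγ0] at this
  have h01_1 : x01 (1 : F) ∈ H := by
    have e : (u0 : SL3) = x12 1 * x01 1 := by
      apply Subtype.ext
      simp only [SpecialLinearGroup.coe_mul, coe_u0, coe_x12, coe_x01]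
      ext i j
      fin_cases i <;> fin_cases j <;> simp [Matrix.mul_apply, Fin.sum_univ_three]
    have h := mul_mem (inv_mem (h12 1)) hu
    rwa [e, inv_mul_cancel_left] at h
  have h20_α : x20 α ∈ H := by
    have h := mul_mem hv (inv_mem (h12 α))
    rwa [mul_inv_cancel_right] at h
  have h21_α : x21 α ∈ H := by
    have := SLGen.comm_mem (i := 2) (j := 0) (k := 1) (by decide) (by decide) (by decide) h20_α h01_1
    rwa [mul_one] at this
  have h01 : ∀ z, x01 z ∈ H := fun z => by
    have := SLGen.comm_mem (i := 0) (j := 2) (k := 1) (by decide) (by decide) (by decide)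
      (h02 (z / α)) h21_α
    rwa [div_mul_cancel₀ z hα] at this
  have h20 : ∀ z, x20 z ∈ H := by
    have := SLGen.comm_mem (i := 2) (j := 1) (k := 0) (by decide) (by decide) (by decide) h21_α h10_γ
    have hall := span (P := fun z => x20 (α * z) ∈ H) (fun a b ha hb => by
      rw [mul_add, show x20 (α * a + α * b) = x20 (α * a) * x20 (α * b) from xx_add _ _ _ _ _]
      exact mul_mem ha hb) (by simpa using h20_α) this
    intro z
    have h := hall (z / α)
    rwa [mul_div_cancel₀ z hα] at h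
  have h10 : ∀ z, x10 z ∈ H := fun z => by
    have := SLGen.comm_mem (i := 1) (j := 2) (k := 0) (by decide) (by decide) (by decide)
      (h12 (z / α)) h20_α
    rwa [div_mul_cancel₀ z hα] at this
  have h21 : ∀ z, x21 z ∈ H := fun z => by
    have := SLGen.comm_mem (i := 2) (j := 0) (k := 1) (by decide) (by decide) (by decide) (h20 z) h01_1
    rwa [mul_one] at this
  exact eq_top3 h01 h02 h10 h12 h20 h21

end two

/-- The cube of a primitive element generates a finite field with more than four elements. -/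
theorem closure_cube [Fintype F] (θ : Fˣ) (hθ : ∀ x : Fˣ, x ∈ Subgroup.zpowers θ)
    (hq : Fintype.card F = 3 ∨ 5 ≤ Fintype.card F) :
    Subring.closure ({(θ : F) ^ 3} : Set F) = ⊤ := by
  classical
  set K := Subring.closure ({(θ : F) ^ 3} : Set F)
  have hθK : (θ : F) ^ 3 ∈ K := Subring.subset_closure rfl
  by_contra hne
  obtain ⟨x, -, hx⟩ := SetLike.exists_of_lt (lt_top_iff_ne_top.mpr hne)
  set S := Finset.univ.filter fun a : F => a ∈ K
  have hinv : ∀ a ∈ K, a⁻¹ ∈ K := by
    intro a ha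
    by_cases h0 : a = 0
    · simp [h0]
    have : a⁻¹ = a ^ (Fintype.card F - 2) := by
      refine inv_eq_of_mul_eq_one_right ?_
      rw [← pow_succ', show Fintype.card F - 2 + 1 = Fintype.card F - 1 by omega,
        FiniteField.pow_card_sub_one_eq_one a h0]
    exact this ▸ pow_mem ha _
  have hsq : S.card * S.card ≤ Fintype.card F := by
    rw [← Finset.card_product, ← Finset.card_univ]
    refine Finset.card_le_card_of_injOn (fun p => p.1 + p.2 * x) (fun _ _ => Finset.mem_univ _) ?_
    intro p hp p' hp' h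
    simp only [Finset.coe_product, Set.mem_prod, Finset.mem_coe, S, Finset.mem_filter,
      Finset.mem_univ, true_and] at hp hp' h
    by_cases h2 : p.2 = p'.2
    · rw [h2, add_left_inj] at h; exact Prod.ext h h2
    · exfalso
      apply hx
      have : x = (p.1 - p'.1) * (p'.2 - p.2)⁻¹ := by
        rw [eq_mul_inv_iff_mul_eq₀ (sub_ne_zero.mpr (Ne.symm h2))]
        linear_combination -h
      rw [this]
      exact mul_mem (sub_mem hp.1 hp'.1) (hinv _ (sub_mem hp'.2 hp.2))
  have hord : orderOf θ = Fintype.card F - 1 := by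
    rw [orderOf_eq_card_of_forall_mem_zpowers hθ, Nat.card_eq_fintype_card, Fintype.card_units]
  have hcube : orderOf θ ≤ 3 * orderOf (θ ^ 3) := by
    refine Nat.le_of_dvd (by have := orderOf_pos (θ ^ 3); omega) (orderOf_dvd_of_pow_eq_one ?_)
    rw [pow_mul, pow_orderOf_eq_one]
  have hle : orderOf (θ ^ 3) + 1 ≤ S.card := by
    have hinj : Set.InjOn (fun k => ((θ ^ 3) ^ k : Fˣ).val) (Finset.range (orderOf (θ ^ 3))) := by
      intro a ha b hb h
      simp only [Finset.coe_range, Set.mem_Iio] at ha hb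
      exact pow_injOn_Iio_orderOf ha hb (Units.ext h)
    have hsub : insert 0 ((Finset.range (orderOf (θ ^ 3))).image fun k => ((θ ^ 3) ^ k : Fˣ).val) ⊆ S := by
      intro y hy
      simp only [S, Finset.mem_filter, Finset.mem_univ, true_and]
      rcases Finset.mem_insert.mp hy with rfl | hy
      · exact zero_mem K
      · obtain ⟨k, -, rfl⟩ := Finset.mem_image.mp hy
        rw [Units.val_pow_eq_pow_val, Units.val_pow_eq_pow_val]
        exact pow_mem hθK _
    have hnot : (0 : F) ∉ (Finset.range (orderOf (θ ^ 3))).image fun k => ((θ ^ 3) ^ k : Fˣ).val := by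
      intro h
      obtain ⟨k, -, hk⟩ := Finset.mem_image.mp h
      exact Units.ne_zero _ hk
    have := Finset.card_le_card hsub
    rwa [Finset.card_insert_of_notMem hnot, Finset.card_image_of_injOn hinj, Finset.card_range] at this
  have h2S : 2 ≤ S.card := by
    have : ({0, 1} : Finset F) ⊆ S := by
      intro y hy
      simp only [S, Finset.mem_filter, Finset.mem_univ, true_and]
      rcases Finset.mem_insert.mp hy with rfl | hy
      · exact zero_mem K
      · rw [Finset.mem_singleton.mp hy]; exact one_mem K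
    simpa using Finset.card_le_card this
  have h3 : S.card ≤ 2 := by
    by_contra h
    have : 3 * S.card ≤ S.card * S.card := Nat.mul_le_mul_right _ (by omega)
    omega
  have : S.card * S.card ≤ 4 := le_trans (Nat.mul_le_mul h3 h3) le_rfl
  have hS : S.card = 2 := le_antisymm h3 h2S
  rw [hS] at hsq
  omega

/-- Two conjugate regular unipotent elements generate. -/
theorem two_generate [Fintype F] :
    ∃ u g : SL3, (IsNilpotent (u.1 - 1) ∧ (u.1 - 1) ^ (3 - 1) ≠ 0) ∧
      Subgroup.closure ({u, g * u * g⁻¹} : Set SL3) = ⊤ := by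
  classical
  obtain ⟨θ, hθ⟩ := IsCyclic.exists_generator (α := Fˣ)
  have hθ0 : (θ : F) ≠ 0 := θ.ne_zero
  have hord : orderOf θ = Fintype.card F - 1 := by
    rw [orderOf_eq_card_of_forall_mem_zpowers hθ, Nat.card_eq_fintype_card, Fintype.card_units]
  by_cases hq : Fintype.card F = 2 ∨ Fintype.card F = 4
  · have hchar : CharP F 2 := by
      obtain ⟨p, n, hp, hpn⟩ := FiniteField.card' F
      obtain ⟨p', hp'⟩ := CharP.exists F
      obtain ⟨n', hp'p, hn'⟩ := FiniteField.card F p'
      have : p' ∣ 2 ^ 2 := by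
        rcases hq with h | h
        · exact (dvd_pow_self p' (PNat.ne_zero n')).trans (by rw [← hn', h]; norm_num)
        · exact (dvd_pow_self p' (PNat.ne_zero n')).trans (by rw [← hn', h]; norm_num)
      rwa [(Nat.prime_dvd_prime_iff_eq hp'p Nat.prime_two).mp (hp'p.dvd_of_dvd_pow this)] at hp'
    have hF : ∀ z : F, z = 0 ∨ z = 1 ∨ z = (θ : F) ^ 2 ∨ z = 1 + (θ : F) ^ 2 := by
      rcases hq with hc | hc
      · intro z
        have hsub : ({0, 1} : Finset F) = Finset.univ :=
          Finset.eq_univ_of_card _ (by simp [hc])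
        have := Finset.mem_univ z
        rw [← hsub] at this
        simp only [Finset.mem_insert, Finset.mem_singleton] at this
        rcases this with h | h
        · exact Or.inl h
        · exact Or.inr (Or.inl h)
      · intro z
        have hg1 : (θ : F) ^ 2 ≠ 1 := by
          intro h
          have : orderOf θ ∣ 2 := orderOf_dvd_of_pow_eq_one (Units.ext (by simpa using h))
          rw [hord, hc] at this
          norm_num at this
        have hg0 : (θ : F) ^ 2 ≠ 0 := pow_ne_zero 2 hθ0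
        have hne : (1 : F) + (θ : F) ^ 2 ≠ 0 := fun h =>
          hg1 (by linear_combination h - CharTwo.two_eq_zero (R := F))
        have hsub : ({0, 1, (θ : F) ^ 2, 1 + (θ : F) ^ 2} : Finset F) = Finset.univ :=
          Finset.eq_univ_of_card _ (by
            rw [hc, Finset.card_insert_of_notMem, Finset.card_insert_of_notMem,
              Finset.card_insert_of_notMem, Finset.card_singleton]
            · simp
            · simp [Ne.symm hg1, hg0]
            · simp [Ne.symm hg0, Ne.symm hne])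
        have := Finset.mem_univ z
        rw [← hsub] at this
        simpa using this
    obtain ⟨g, hg⟩ := top_of_char_two hθ0 hF
    exact ⟨u0, g, u0_regular, hg⟩
  · push Not at hq
    have h2 : 2 ≤ Fintype.card F := Fintype.one_lt_card
    have hq' : Fintype.card F = 3 ∨ 5 ≤ Fintype.card F := by omega
    have hα3 : (θ : F) ^ 3 ≠ 1 := by
      intro h
      have h' : orderOf θ ∣ 3 := orderOf_dvd_of_pow_eq_one (Units.ext (by simpa using h))
      rw [hord] at h'
      rcases (Nat.dvd_prime Nat.prime_three).mp h' with h'' | h'' <;> omega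
    have hθinv : ∀ x : Fˣ, x ∈ Subgroup.zpowers θ⁻¹ := by
      intro x; rw [Subgroup.zpowers_inv]; exact hθ x
    have hδ := closure_cube θ hθ hq'
    have hγ : Subring.closure ({((θ : F))⁻¹ ^ 3} : Set F) = ⊤ := by
      have := closure_cube θ⁻¹ hθinv hq'
      simpa [Units.val_inv_eq_inv_val] using this
    have hr : (θ : F) ^ 2 + θ + 1 ≠ 0 := fun h => hα3 (by linear_combination ((θ : F) - 1) * h)
    have hα1 : (θ : F) - 1 ≠ 0 := fun h => hα3 (by rw [sub_eq_zero.mp h, one_pow])
    have hs : -((θ : F) - 1) ^ 3 / (θ : F) ^ 2 ≠ 0 :=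
      div_ne_zero (neg_ne_zero.mpr (pow_ne_zero 3 hα1)) (pow_ne_zero 2 hθ0)
    refine ⟨uR (3 / ((θ : F) ^ 2 + θ + 1)) (-((θ : F) - 1) ^ 3 / (θ : F) ^ 2),
      gA θ (3 / ((θ : F) ^ 2 + θ + 1)) (-((θ : F) - 1) ^ 3 / (θ : F) ^ 2) hθ0 hs,
      uR_regular hs, ?_⟩
    refine top_of_uR_mA hθ0 hs hδ hγ hα3 (Subgroup.subset_closure (Set.mem_insert _ _)) ?_
    rw [← gA_spec hθ0 hr rfl rfl hs]
    exact mul_mem (Subgroup.subset_closure (by simp)) (Subgroup.subset_closure (by simp))

end CfsgLib.SLGen3
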