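/-
Conjugacy of regular unipotent elements in `SL_n`.
-/
import Mathlib.LinearAlgebra.Matrix.SpecialLinearGroup
import Mathlib.LinearAlgebra.Matrix.Block
import Mathlib.GroupTheory.SpecificGroups.Cyclic
import Cfsg.Agent.Lib.CyclicVector

set_option autoImplicit false

namespace CfsgLib.RegUnip

open Matrix CfsgLib.CyclicVector

variable {F : Type*} [Field F] {n : ℕ}

local notation "SL" => Matrix.SpecialLinearGroup (Fin n) F
local notation "Mat" => Matrix (Fin n) (Fin n) F

/-- The matrix of the chain through `v`. -/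
def chain (N : Mat) (v : Fin n → F) : Mat := Matrix.of fun i j => (N ^ (j : ℕ) *ᵥ v) i

/-- The lower shift. -/
def down : Mat := Matrix.of fun i j => if (i : ℕ) = j + 1 then 1 else 0

theorem mul_chain (N : Mat) (v : Fin n → F) (hnil : N ^ n = 0) :
    N * chain N v = chain N v * down := by
  ext i j
  have h : (N * chain N v) i j = (N ^ ((j : ℕ) + 1) *ᵥ v) i := by
    rw [Matrix.mul_apply, pow_succ', ← mulVec_mulVec]
    rfl
  rw [h, Matrix.mul_apply]
  by_cases hj : (j : ℕ) + 1 < n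
  · rw [Finset.sum_eq_single (⟨(j : ℕ) + 1, hj⟩ : Fin n)]
    · simp [chain, down]
    · intro k _ hk
      have : (k : ℕ) ≠ j + 1 := fun e => hk (Fin.ext e)
      simp [down, this]
    · simp
  · rw [pow_eq_zero_of_le (by omega) hnil, zero_mulVec, Pi.zero_apply]
    refine (Finset.sum_eq_zero fun k _ => ?_).symm
    have : (k : ℕ) ≠ j + 1 := by omega
    simp [down, this]

theorem chain_conj {N N' g : Mat} (h : g * N = N' * g) (v : Fin n → F) :
    chain N' (g *ᵥ v) = g * chain N v := by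
  have hk : ∀ k : ℕ, N' ^ k * g = g * N ^ k := fun k => by
    induction k with
    | zero => simp
    | succ k ih => rw [pow_succ, pow_succ, mul_assoc, ← h, ← mul_assoc, ih, mul_assoc]
  ext i j
  show (N' ^ (j : ℕ) *ᵥ (g *ᵥ v)) i = (g * chain N v) i j
  rw [mulVec_mulVec, hk, ← mulVec_mulVec, Matrix.mul_apply]
  rfl

theorem det_chain_ne_zero {N : Mat} {v : Fin n → F} (hnil : N ^ n = 0)
    (hv : N ^ (n - 1) *ᵥ v ≠ 0) : (chain N v).det ≠ 0 := by
  refine ((Matrix.isUnit_iff_isUnit_det _).mp ?_).ne_zero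
  rw [← Matrix.linearIndependent_cols_iff_isUnit]
  exact linearIndependent_chain hnil hv

theorem top_of_det {N : Mat} {v : Fin n → F} (hn : 1 ≤ n) (h : (chain N v).det ≠ 0) :
    N ^ (n - 1) *ᵥ v ≠ 0 := by
  intro e
  exact h (Matrix.det_eq_zero_of_column_eq_zero ⟨n - 1, by omega⟩ fun i => by
    show (N ^ (n - 1) *ᵥ v) i = 0
    rw [e, Pi.zero_apply])

/-- Changing the vector changes the determinant by an `n`-th power. -/
theorem det_chain_change {N : Mat} (hn : 1 ≤ n) {v w : Fin n → F} (hnil : N ^ n = 0)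
    (hv : N ^ (n - 1) *ᵥ v ≠ 0) : ∃ c : F, (chain N w).det = c ^ n * (chain N v).det := by
  classical
  obtain ⟨a, ha⟩ := (Submodule.mem_span_range_iff_exists_fun F).mp
    (show w ∈ Submodule.span F (Set.range fun i : Fin n => N ^ (i : ℕ) *ᵥ v) by
      rw [(linearIndependent_chain hnil hv).span_eq_top_of_card_eq_finrank' (by simp)]
      trivial)
  set P : Mat := ∑ i : Fin n, a i • N ^ (i : ℕ) with hP
  have hw : w = P *ᵥ v := by
    rw [← ha, hP, sum_mulVec]
    exact Finset.sum_congr rfl fun i _ => (smul_mulVec _ _ _).symm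
  have hcomm : Commute P N := by
    refine Commute.sum_left _ _ _ fun i _ => ?_
    exact ((Commute.refl N).pow_left _).smul_left _
  rw [hw, chain_conj hcomm.eq, det_mul]
  set i₀ : Fin n := ⟨0, hn⟩
  refine ⟨a i₀, ?_⟩
  congr 1
  set M : Mat := ∑ i ∈ Finset.univ.erase i₀, a i • N ^ (i : ℕ)
  have hM : IsNilpotent M := by
    refine Commute.isNilpotent_sum (fun i hi => ?_) fun i j _ _ => ?_
    · have hi0 : (i : ℕ) ≠ 0 := fun e => (Finset.mem_erase.mp hi).1 (Fin.ext e)
      refine (IsNilpotent.mk _ n ?_)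
      rw [smul_pow, ← pow_mul, pow_eq_zero_of_le (Nat.le_mul_of_pos_left n (by omega)) hnil,
        smul_zero]
    · exact (((Commute.refl N).pow_pow _ _).smul_left _).smul_right _
  have hsplit : P = Matrix.scalar (Fin n) (a i₀) - (-M) := by
    rw [hP, ← Finset.add_sum_erase _ _ (Finset.mem_univ i₀), sub_neg_eq_add]
    congr 1
    rw [show ((i₀ : Fin n) : ℕ) = 0 from rfl, pow_zero]
    exact Matrix.smul_one_eq_diagonal _
  have hch : (-M).charpoly = Polynomial.X ^ Fintype.card (Fin n) :=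
    sub_eq_zero.mp (Matrix.isNilpotent_charpoly_sub_pow_of_isNilpotent hM.neg).eq_zero
  rw [hsplit, ← Matrix.eval_charpoly, hch, Polynomial.eval_pow, Polynomial.eval_X, Fintype.card_fin]

/-- Regular unipotent elements. -/
def IsReg (u : SL) : Prop := (u.1 - 1) ^ n = 0 ∧ (u.1 - 1) ^ (n - 1) ≠ 0

theorem exists_top {N : Mat} (h : N ^ (n - 1) ≠ 0) : ∃ v, N ^ (n - 1) *ᵥ v ≠ 0 := by
  by_contra hc
  push Not at hc
  exact h (Matrix.ext_of_mulVec_single fun i => by rw [hc, zero_mulVec])

/-- Conjugacy from equal determinants. -/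
theorem isConj_of_det_eq {u u' : SL} {v v' : Fin n → F}
    (hnil : (u.1 - 1) ^ n = 0) (hnil' : (u'.1 - 1) ^ n = 0)
    (hv : (u.1 - 1) ^ (n - 1) *ᵥ v ≠ 0)
    (he : (chain (u.1 - 1) v).det = (chain (u'.1 - 1) v').det) : IsConj u u' := by
  set C := chain (u.1 - 1) v
  set C' := chain (u'.1 - 1) v'
  have hC : IsUnit C.det := isUnit_iff_ne_zero.mpr (det_chain_ne_zero hnil hv)
  have hg : (C' * C⁻¹).det = 1 := by
    rw [det_mul, Matrix.det_nonsing_inv, Ring.inverse_eq_inv', ← he,
      mul_inv_cancel₀ hC.ne_zero]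
  let g : SL := ⟨C' * C⁻¹, hg⟩
  have h1 : (u'.1 - 1) * g.1 = g.1 * (u.1 - 1) := by
    show (u'.1 - 1) * (C' * C⁻¹) = C' * C⁻¹ * (u.1 - 1)
    have hCN : C⁻¹ * (u.1 - 1) = down * C⁻¹ := by
      have h2 : (u.1 - 1) * C = C * down := mul_chain (u.1 - 1) v hnil
      calc C⁻¹ * (u.1 - 1) = C⁻¹ * ((u.1 - 1) * C) * C⁻¹ := by
            rw [mul_assoc, mul_assoc (u.1 - 1), Matrix.mul_nonsing_inv _ hC, mul_one]
        _ = down * C⁻¹ := by rw [h2, ← mul_assoc C⁻¹, Matrix.nonsing_inv_mul _ hC, one_mul]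
    rw [← mul_assoc, mul_chain (u'.1 - 1) v' hnil', mul_assoc, ← hCN, mul_assoc]
  refine isConj_iff.mpr ⟨g, mul_inv_eq_iff_eq_mul.mpr (Subtype.ext ?_)⟩
  rw [SpecialLinearGroup.coe_mul, SpecialLinearGroup.coe_mul]
  rw [sub_mul, mul_sub, one_mul, mul_one, sub_left_inj] at h1
  exact h1.symm

/-- Conjugate elements have determinants differing by an `n`-th power. -/
theorem det_rel_of_isConj (hn : 1 ≤ n) {u u' : SL} {v v' : Fin n → F}
    (hnil' : (u'.1 - 1) ^ n = 0) (hv' : (u'.1 - 1) ^ (n - 1) *ᵥ v' ≠ 0) (h : IsConj u u') :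
    ∃ c : F, (chain (u.1 - 1) v).det = c ^ n * (chain (u'.1 - 1) v').det := by
  obtain ⟨g, hg⟩ := isConj_iff.mp h
  have hg' : g * u = u' * g := by rw [← hg, inv_mul_cancel_right]
  have h1 : g.1 * (u.1 - 1) = (u'.1 - 1) * g.1 := by
    rw [mul_sub, sub_mul, mul_one, one_mul, sub_left_inj]
    exact congrArg Subtype.val hg'
  obtain ⟨c, hc⟩ := det_chain_change hn (w := g.1 *ᵥ v) hnil' hv'
  rw [chain_conj h1, det_mul, g.2, one_mul] at hc
  exact ⟨c, hc⟩

/-- A representative with prescribed determinant. -/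
def rep (d : Fˣ) : SL := ⟨1 + Matrix.of (fun i j : Fin n =>
    if (i : ℕ) = j + 1 then (if (j : ℕ) = 0 then ((d⁻¹ : Fˣ) : F) else 1) else 0), by
  rw [Matrix.det_of_lowerTriangular]
  · exact Finset.prod_eq_one fun i _ => by simp
  · intro i j hij
    have hij' : (i : ℕ) < (j : ℕ) := hij
    have hne : i ≠ j := fun e => by subst e; omega
    simp [Matrix.one_apply_ne hne, show ¬ (i : ℕ) = j + 1 by omega]⟩

theorem rep_spec (hn : 1 ≤ n) (d : Fˣ) :
    ((rep (n := n) d).1 - 1) ^ n = 0 ∧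
      ∃ v, ((rep (n := n) d).1 - 1) ^ (n - 1) *ᵥ v ≠ 0 ∧
        (chain ((rep (n := n) d).1 - 1) v).det = (d : F) := by
  classical
  set N : Mat := (rep (n := n) d).1 - 1 with hN
  set t : Fin n → F := fun i => if (i : ℕ) = 0 then (d : F) else 1 with ht
  have hNd : N * diagonal t = diagonal t * down := by
    rw [hN, show (rep (n := n) d).1 = 1 + Matrix.of (fun i j : Fin n =>
      if (i : ℕ) = j + 1 then (if (j : ℕ) = 0 then ((d⁻¹ : Fˣ) : F) else 1) else 0) from rfl,
      add_sub_cancel_left]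
    ext i j
    rw [Matrix.mul_diagonal, Matrix.diagonal_mul]
    simp only [Matrix.of_apply, down, ht]
    split_ifs <;> (try (first | (exfalso; omega) | simp))
  have hdown : ∀ k : ℕ, ∀ i j : Fin n, ((down : Mat) ^ k) i j = if (i : ℕ) = j + k then 1 else 0 := by
    intro k
    induction k with
    | zero => intro i j; simp [Matrix.one_apply, Fin.ext_iff]
    | succ k ih =>
      intro i j
      rw [pow_succ, Matrix.mul_apply]
      by_cases h : (j : ℕ) + 1 < n
      · rw [Finset.sum_eq_single (⟨(j : ℕ) + 1, h⟩ : Fin n)]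
        · rw [ih, down, Matrix.of_apply, if_pos rfl, mul_one,
            show (j : ℕ) + 1 + k = j + (k + 1) by omega]
        · intro l _ hl
          have : (l : ℕ) ≠ j + 1 := fun e => hl (Fin.ext e)
          rw [down, Matrix.of_apply, if_neg this, mul_zero]
        · simp
      · rw [if_neg (by omega)]
        refine Finset.sum_eq_zero fun l _ => ?_
        rw [down, Matrix.of_apply, if_neg (by omega), mul_zero]
  have hpow : ∀ k : ℕ, N ^ k * diagonal t = diagonal t * (down : Mat) ^ k := fun k => by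
    induction k with
    | zero => simp
    | succ k ih => rw [pow_succ, pow_succ, mul_assoc, hNd, ← mul_assoc, ih, mul_assoc]
  have hdet : (diagonal t).det = (d : F) := by
    rw [det_diagonal, Finset.prod_eq_single (⟨0, hn⟩ : Fin n)]
    · simp [ht]
    · intro i _ hi
      have : (i : ℕ) ≠ 0 := fun e => hi (Fin.ext e)
      simp [ht, this]
    · simp
  have hnil : N ^ n = 0 := by
    have hz : (down : Mat) ^ n = 0 := by
      ext i j
      rw [hdown, if_neg (by omega)]
      rfl
    have h := hpow n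
    rw [hz, mul_zero] at h
    have hu : IsUnit (diagonal t).det := by rw [hdet]; exact d.isUnit
    have := congrArg (fun X : Mat => X * (diagonal t)⁻¹) h
    simpa [mul_assoc, Matrix.mul_nonsing_inv _ hu] using this
  have hC : chain N (diagonal t *ᵥ Pi.single ⟨0, hn⟩ 1) = diagonal t := by
    rw [chain_conj hNd.symm]
    have : chain (down : Mat) (Pi.single ⟨0, hn⟩ 1) = 1 := by
      ext i j
      simp [chain, hdown, Matrix.one_apply, Fin.ext_iff]
    rw [this, mul_one]
  refine ⟨hnil, diagonal t *ᵥ Pi.single ⟨0, hn⟩ 1, top_of_det (N := N) hn ?_, ?_⟩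
  · rw [hC, hdet]; exact d.ne_zero
  · rw [hC, hdet]

theorem card_classes [Fintype F] (hn : 1 ≤ n) :
    Nat.card {C : ConjClasses SL // ∃ u : SL, ConjClasses.mk u = C ∧ IsReg u} =
      Nat.gcd n (Fintype.card F - 1) := by
  classical
  have hP : (powMonoidHom n : Fˣ →* Fˣ).range.index = Nat.gcd n (Fintype.card F - 1) := by
    rw [IsCyclic.index_powMonoidHom_range, Nat.card_eq_fintype_card, Fintype.card_units, Nat.gcd_comm]
  rw [← hP, Subgroup.index_eq_card]
  symm
  have hreg : ∀ d : Fˣ, IsReg (rep (n := n) d) := fun d => by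
    obtain ⟨h1, v, h2, -⟩ := rep_spec hn d
    exact ⟨h1, fun e => h2 (by rw [e, zero_mulVec])⟩
  have hrel : ∀ d d' : Fˣ, (QuotientGroup.leftRel (powMonoidHom n : Fˣ →* Fˣ).range).r d d' ↔
      IsConj (rep (n := n) d) (rep d') := by
    intro d d'
    obtain ⟨h1, v, hv, hd⟩ := rep_spec hn d
    obtain ⟨h1', v', hv', hd'⟩ := rep_spec hn d'
    rw [QuotientGroup.leftRel_apply]
    constructor
    · rintro ⟨c, hc⟩
      rw [powMonoidHom_apply] at hc
      refine isConj_of_det_eq h1 h1' (v := Matrix.scalar (Fin n) (c : F) *ᵥ v) (v' := v') ?_ ?_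
      · refine top_of_det hn ?_
        rw [chain_conj (Matrix.scalar_commute _ (fun _ => Commute.all _ _) _).eq, det_mul]
        refine mul_ne_zero ?_ (det_chain_ne_zero h1 hv)
        simp
      · rw [chain_conj (Matrix.scalar_commute _ (fun _ => Commute.all _ _) _).eq, det_mul, hd, hd']
        have : ((d' : Fˣ) : F) = (c : F) ^ n * d := by
          rw [← Units.val_pow_eq_pow_val, hc, ← Units.val_mul]
          congr 1; rw [mul_comm, mul_inv_cancel_left]
        rw [this]
        simp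
    · intro h
      obtain ⟨c, hc⟩ := det_rel_of_isConj hn (v := v) h1' hv' h
      rw [hd, hd'] at hc
      have hc0 : c ≠ 0 := fun e => d.ne_zero (by rw [hc, e, zero_pow (by omega), zero_mul])
      refine ⟨(Units.mk0 c hc0)⁻¹, ?_⟩
      rw [powMonoidHom_apply]
      have hd'' : d = Units.mk0 c hc0 ^ n * d' := Units.ext (by simpa using hc)
      rw [hd'', inv_pow, _root_.mul_inv_rev, mul_right_comm, inv_mul_cancel, one_mul]
  refine Nat.card_congr (Equiv.ofBijective
    (Quotient.lift (fun d => (⟨ConjClasses.mk (rep (n := n) d), rep d, rfl, hreg d⟩ :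
      {C : ConjClasses SL // ∃ u : SL, ConjClasses.mk u = C ∧ IsReg u}))
      (fun d d' h => Subtype.ext (ConjClasses.mk_eq_mk_iff_isConj.mpr ((hrel d d').mp h)))) ⟨?_, ?_⟩)
  · intro a b
    refine Quotient.inductionOn₂ a b fun d d' h => ?_
    exact Quotient.sound ((hrel d d').mpr (ConjClasses.mk_eq_mk_iff_isConj.mp (congrArg Subtype.val h)))
  · rintro ⟨C, u, rfl, hu⟩
    obtain ⟨w, hw⟩ := exists_top hu.2
    set D := Units.mk0 (chain (u.1 - 1) w).det (det_chain_ne_zero hu.1 hw)
    obtain ⟨h1, v, hv, hd⟩ := rep_spec hn D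
    exact ⟨Quotient.mk'' D, Subtype.ext (ConjClasses.mk_eq_mk_iff_isConj.mpr
      (isConj_of_det_eq h1 hu.1 hv hd))⟩

end CfsgLib.RegUnip
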