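/-
Regular nilpotent strictly upper triangular matrices.
-/
import Cfsg.Agent.Lib.SLGen.RegularUnipotent
import Mathlib.LinearAlgebra.Matrix.Permutation
import Mathlib.GroupTheory.Perm.Fin

set_option autoImplicit false

namespace CfsgLib.RegUnip

open Matrix

variable {F : Type*} [Field F] {n : ℕ}

local notation "Mat" => Matrix (Fin n) (Fin n) F

theorem pow_strictUpper {K : Mat} (h : ∀ i j : Fin n, (j : ℕ) ≤ i → K i j = 0) :
    ∀ (k : ℕ) (i j : Fin n), (j : ℕ) < i + k → (K ^ k) i j = 0 := by
  intro k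
  induction k with
  | zero =>
    intro i j hij
    rw [pow_zero, Matrix.one_apply_ne]
    intro e; subst e; omega
  | succ k ih =>
    intro i j hij
    rw [pow_succ, Matrix.mul_apply]
    refine Finset.sum_eq_zero fun l _ => ?_
    by_cases hl : (l : ℕ) < i + k
    · rw [ih i l hl, zero_mul]
    · rw [h l j (by omega), mul_zero]

theorem pow_strictUpper_diag {K : Mat} (h : ∀ i j : Fin n, (j : ℕ) ≤ i → K i j = 0) (k : ℕ)
    (i l j : Fin n) (hl : (l : ℕ) = i + k) (hj : (j : ℕ) = i + k + 1) :
    (K ^ (k + 1)) i j = (K ^ k) i l * K l j := by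
  rw [pow_succ, Matrix.mul_apply, Finset.sum_eq_single l]
  · intro m _ hm
    have hm' : (m : ℕ) ≠ l := fun e => hm (Fin.ext e)
    by_cases hlt : (m : ℕ) < i + k
    · rw [pow_strictUpper h k i m hlt, zero_mul]
    · rw [h m j (by omega), mul_zero]
  · exact fun e => absurd (Finset.mem_univ _) e

/-- The chain of the last basis vector of a strictly upper triangular matrix. -/
theorem strictUpper_chain {K : Mat} (hn : 1 ≤ n) (h : ∀ i j : Fin n, (j : ℕ) ≤ i → K i j = 0)
    (b : ℕ → F) (hb0 : b 0 = 1)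
    (hb : ∀ (m : ℕ) (i j : Fin n), (i : ℕ) + m + 2 = n → (j : ℕ) = i + 1 → b (m + 1) = K i j * b m) :
    K ^ n = 0 ∧ (chain K (Pi.single ⟨n - 1, by omega⟩ 1)).det =
      (Equiv.Perm.sign (Fin.revPerm (n := n)) : ℤ) * ∏ m : Fin n, b m := by
  set top : Fin n := ⟨n - 1, by omega⟩ with htop
  have hnil : K ^ n = 0 := by
    ext i j; exact pow_strictUpper h n i j (by omega)
  refine ⟨hnil, ?_⟩
  have hdiag : ∀ (m : ℕ) (i : Fin n), (i : ℕ) + m + 1 = n → (K ^ m) i top = b m := by
    intro m
    induction m with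
    | zero =>
      intro i hi
      have : i = top := Fin.ext (by simp [htop]; omega)
      rw [this, pow_zero, Matrix.one_apply_eq, hb0]
    | succ m ih =>
      intro i hi
      set l : Fin n := ⟨(i : ℕ) + 1, by omega⟩
      rw [pow_succ', Matrix.mul_apply, Finset.sum_eq_single l]
      · rw [ih l (by simp [l]; omega), hb m i l (by omega) rfl]
      · intro r _ hr
        have hr' : (r : ℕ) ≠ i + 1 := fun e => hr (Fin.ext e)
        by_cases hlt : (r : ℕ) ≤ i
        · rw [h i r hlt, zero_mul]
        · rw [pow_strictUpper h m r top (by simp [htop]; omega), mul_zero]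
      · exact fun e => absurd (Finset.mem_univ _) e
  have hC : ∀ i m : Fin n, chain K (Pi.single top 1) i m = (K ^ (m : ℕ)) i top := fun i m => by
    show (K ^ (m : ℕ) *ᵥ Pi.single top 1) i = _
    rw [Matrix.mulVec_single_one]
    rfl
  have hT : ((chain K (Pi.single top 1)).submatrix Fin.revPerm id).det = ∏ m : Fin n, b m := by
    rw [Matrix.det_of_lowerTriangular]
    · refine Finset.prod_congr rfl fun m _ => ?_
      rw [Matrix.submatrix_apply, id, Fin.revPerm_apply, hC, hdiag]
      simp [Fin.val_rev]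
      omega
    · intro i j hij
      have hij' : (i : ℕ) < (j : ℕ) := hij
      rw [Matrix.submatrix_apply, id, Fin.revPerm_apply, hC]
      exact pow_strictUpper h _ _ _ (by simp [Fin.val_rev, htop]; omega)
  rw [Matrix.det_permute] at hT
  rw [← hT, ← mul_assoc, ← Int.cast_mul, Int.units_coe_mul_self, Int.cast_one, one_mul]

theorem permMatrix_conj (σ : Equiv.Perm (Fin n)) (A : Mat) :
    σ.permMatrix F * A.submatrix σ.symm σ.symm = A * σ.permMatrix F := by
  rw [Equiv.Perm.permMatrix, PEquiv.toMatrix_toPEquiv_mul, PEquiv.mul_toMatrix_toPEquiv]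
  ext i j
  simp

theorem det_chain_smul (N : Mat) (c : F) (v : Fin n → F) :
    (chain N (c • v)).det = c ^ n * (chain N v).det := by
  have : chain N (c • v) = c • chain N v := by
    ext i j
    show (N ^ (j : ℕ) *ᵥ (c • v)) i = c * (N ^ (j : ℕ) *ᵥ v) i
    rw [mulVec_smul]; rfl
  rw [this, det_smul, Fintype.card_fin]

end CfsgLib.RegUnip
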