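/-
Elements of order `q + 1` in `SL_2(q)`: invariant additive subgroups and traces.
-/
import Mathlib.GroupTheory.GroupAction.Quotient
import Mathlib.LinearAlgebra.Matrix.CharP
import Mathlib.FieldTheory.Finite.Basic
import Mathlib.GroupTheory.Perm.Cycle.Type
import Cfsg.Agent.Lib.GL2Classes
import Cfsg.Agent.Lib.NonSplitTorus

set_option autoImplicit false

namespace CfsgLib.TwoBlock

open Matrix

variable {F : Type*} [Field F] [Fintype F]

local notation "M2" => Matrix (Fin 2) (Fin 2) F

/-- An element of order `q + 1` all whose proper powers are fixed-point-free. -/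
structure Singer (W : M2) : Prop where
  pow_eq_one : W ^ (Fintype.card F + 1) = 1
  det_pow_sub_one : ∀ k : ℕ, 0 < k → k < Fintype.card F + 1 → (W ^ k - 1).det ≠ 0

theorem Singer.sub_one {W : M2} (h : Singer W) : (W - 1).det ≠ 0 := by
  have := h.det_pow_sub_one 1 one_pos (by have := Fintype.one_lt_card (α := F); omega)
  rwa [pow_one] at this

/-- A two by two matrix of determinant one satisfies its equation. -/
theorem sub_one_sq {W : M2} (h : W.det = 1) : (W - 1) * (W - 1) = (W.trace - 2) • W := by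
  rw [det_fin_two] at h
  ext i j
  fin_cases i <;> fin_cases j <;> simp [Matrix.mul_apply, Fin.sum_univ_two, Matrix.trace_fin_two] <;>
    first | linear_combination h | linear_combination -h | ring

theorem det_sub_one {W : M2} (h : W.det = 1) : (W - 1).det = 2 - W.trace := by
  rw [det_fin_two] at h
  simp [Matrix.det_fin_two, Matrix.trace_fin_two]
  linear_combination h

variable (F) in
/-- Existence, with a square `trace - 2` over prime fields. -/
theorem exists_singer : ∃ t : F, t ≠ 2 ∧ ((Fintype.card F).Prime → IsSquare (t - 2)) ∧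
    ∀ W : M2, W.det = 1 → W.trace = t → (∀ a : F, W ≠ a • (1 : M2)) → Singer W := by
  classical
  obtain ⟨p, hchar⟩ := CharP.exists F
  obtain ⟨f, hp, hcard⟩ := FiniteField.card F p
  haveI := Fact.mk hp
  haveI : CharP M2 p := Matrix.charP p
  obtain ⟨g, hg⟩ := NonSplitTorus.exists_orderOf_card_add_one (F := F) p
  have hdet : g.1.det = 1 := g.2
  have hq : 1 < Fintype.card F := Fintype.one_lt_card
  have hpq : p ∣ Fintype.card F := hcard ▸ dvd_pow_self p (PNat.ne_zero f)
  have hfix : ∀ k : ℕ, 0 < k → k < Fintype.card F + 1 → ((g.1 : M2) ^ k - 1).det ≠ 0 := by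
    intro k hk0 hk h0
    have hdk : ((g.1 : M2) ^ k).det = 1 := by rw [det_pow, hdet, one_pow]
    have htr : ((g.1 : M2) ^ k).trace = 2 := by
      rw [det_sub_one hdk, sub_eq_zero] at h0; exact h0.symm
    have hsq := sub_one_sq hdk
    rw [htr, sub_self, zero_smul] at hsq
    have hgk : ((g.1 : M2) ^ k) ^ p = 1 := by
      have hc : Commute ((g.1 : M2) ^ k - 1) 1 := Commute.one_right _
      have : ((g.1 : M2) ^ k) = ((g.1 : M2) ^ k - 1) + 1 := by abel
      rw [this, add_pow_char_of_commute p hc, one_pow, add_eq_right]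
      obtain ⟨r, rfl⟩ : ∃ r, p = r + 2 := ⟨p - 2, by have := hp.two_le; omega⟩
      rw [pow_add, pow_two, hsq, mul_zero]
    rw [← pow_mul] at hgk
    have h1 : g ^ (k * p) = 1 := Subtype.ext (by simpa using hgk)
    have hd : Fintype.card F + 1 ∣ k * p := hg ▸ orderOf_dvd_of_pow_eq_one h1
    have hcop : Nat.Coprime (Fintype.card F + 1) p := by
      refine (hp.coprime_iff_not_dvd.mpr fun h => ?_).symm
      have := Nat.dvd_sub h hpq
      rw [Nat.add_sub_cancel_left] at this
      exact hp.not_dvd_one this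
    exact absurd (Nat.le_of_dvd hk0 (hcop.dvd_of_dvd_mul_right hd)) (not_le.mpr hk)
  have hpow : (g.1 : M2) ^ (Fintype.card F + 1) = 1 := by
    have h := congrArg Subtype.val (hg ▸ pow_orderOf_eq_one g)
    simpa using h
  have ht2 : g.1.trace ≠ 2 := by
    intro h
    apply hfix 1 one_pos (by omega)
    rw [pow_one, det_sub_one hdet, h, sub_self]
  refine ⟨g.1.trace, ht2, ?_, ?_⟩
  · intro hprime
    by_cases hp2 : p = 2
    · refine FiniteField.isSquare_of_char_two ?_ _
      rw [ringChar.eq F p, hp2]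
    have hqp : Fintype.card F = p := ((Nat.prime_dvd_prime_iff_eq hp hprime).mp hpq).symm
    have hodd : p % 2 = 1 := hp.eq_two_or_odd.resolve_left hp2
    have hne : ringChar F ≠ 2 := by rw [ringChar.eq F p]; exact hp2
    rw [FiniteField.isSquare_iff hne (sub_ne_zero.mpr ht2), hqp]
    obtain ⟨r, hr⟩ : ∃ r, p = 2 * r + 1 := ⟨p / 2, by omega⟩
    rw [show p / 2 = r by omega]
    set s := g.1.trace - 2
    set W : M2 := g.1
    have hJ : ((W - 1) * (W - 1)) ^ r = (s ^ r) • W ^ r := by
      rw [sub_one_sq hdet, smul_pow]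
    have hWhalf : W ^ (r + 1) = -1 := by
      have h2 : (W ^ (r + 1)) * (W ^ (r + 1)) = 1 := by
        rw [← pow_add, ← hpow, hqp, hr]; congr 1; omega
      have hdk : (W ^ (r + 1)).det = 1 := by rw [det_pow, hdet, one_pow]
      have hsq := sub_one_sq hdk
      have hne1 : (W ^ (r + 1) - 1).det ≠ 0 := hfix (r + 1) (by omega) (by omega)
      have hplus : (W ^ (r + 1) - 1) * (W ^ (r + 1) + 1) = 0 := by
        rw [sub_mul, mul_add, h2, mul_one, one_mul]; abel
      have hu : IsUnit (W ^ (r + 1) - 1) := (Matrix.isUnit_iff_isUnit_det _).mpr hne1.isUnit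
      rw [hu.mul_right_eq_zero] at hplus
      exact eq_neg_of_add_eq_zero_left hplus
    have hfrob : (W - 1) ^ p = -(W ^ (2 * r + 1)) * (W - 1) := by
      have h1 : (W - 1) ^ p = W ^ p - 1 := by
        rw [sub_pow_char_of_commute p (Commute.one_right W), one_pow]
      have hinv : W ^ p * W = 1 := by rw [← pow_succ, ← hpow, hqp]
      rw [h1, ← hr, neg_mul, mul_sub, mul_one, hinv, neg_sub]
    rw [hr, pow_succ, pow_mul, pow_two, hJ] at hfrob
    have hu : IsUnit (W - 1) :=
      (Matrix.isUnit_iff_isUnit_det _).mpr (by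
        have := hfix 1 one_pos (by omega); rw [pow_one] at this; exact this.isUnit)
    have h3 := hu.mul_right_cancel hfrob
    have h4 : (s ^ r) • W ^ r = W ^ r := by
      rw [h3, show 2 * r + 1 = (r + 1) + r by omega, pow_add, hWhalf, neg_one_mul, neg_neg]
    have huW : IsUnit (W ^ r) := (Matrix.isUnit_iff_isUnit_det _).mpr (by
      rw [det_pow, hdet, one_pow]; exact isUnit_one)
    have h5 : (s ^ r) • (1 : M2) = 1 :=
      huW.mul_right_cancel (by rw [smul_mul_assoc, one_mul]; exact h4)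
    have := congrFun (congrFun h5 0) 0
    simpa using this
  · intro W hW htW hns
    have hgs : ∀ a : F, (g.1 : M2) ≠ a • (1 : M2) := by
      intro a e
      apply hfix 1 one_pos (by omega)
      have hd := hdet
      rw [e, det_smul, det_one, mul_one, Fintype.card_fin] at hd
      have hord : g ^ 2 = 1 := Subtype.ext (by
        rw [SpecialLinearGroup.coe_pow, e, smul_pow, one_pow, hd, one_smul, SpecialLinearGroup.coe_one])
      have := Nat.le_of_dvd two_pos (orderOf_dvd_of_pow_eq_one hord)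
      omega
    obtain ⟨P, hP⟩ := GL2Classes.exists_conj_comp hns
    obtain ⟨Q, hQ⟩ := GL2Classes.exists_conj_comp hgs
    rw [hW, htW] at hP
    rw [hdet] at hQ
    have hWg : W = (P * Q⁻¹ : GL (Fin 2) F).1 * g.1 * (P * Q⁻¹ : GL (Fin 2) F)⁻¹.1 := by
      have hg' : g.1 = Q.1 * GL2Classes.comp g.1.trace 1 * (Q⁻¹ : GL (Fin 2) F).1 := by
        rw [← hQ, Units.mul_inv_cancel_right]
      have hW' : W = P.1 * GL2Classes.comp g.1.trace 1 * (P⁻¹ : GL (Fin 2) F).1 := by
        rw [← hP, Units.mul_inv_cancel_right]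
      conv_lhs => rw [hW']
      conv_rhs => rw [hg']
      rw [_root_.mul_inv_rev, inv_inv, Units.val_mul, Units.val_mul]
      simp only [Matrix.mul_assoc, Units.inv_mul_cancel_left]
    refine ⟨?_, fun k hk0 hk => ?_⟩
    · rw [hWg, Units.conj_pow, hpow, mul_one, ← Units.val_mul, mul_inv_cancel, Units.val_one]
    · rw [hWg, Units.conj_pow]
      have : (P * Q⁻¹ : GL (Fin 2) F).1 * g.1 ^ k * (P * Q⁻¹ : GL (Fin 2) F)⁻¹.1 - 1 =
          (P * Q⁻¹ : GL (Fin 2) F).1 * (g.1 ^ k - 1) * (P * Q⁻¹ : GL (Fin 2) F)⁻¹.1 := by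
        rw [mul_sub, sub_mul, mul_one, Units.mul_inv]
      rw [this, det_units_conj]
      exact hfix k hk0 hk

/-- An invariant nonzero additive subgroup of `F²` is everything. -/
theorem eq_top_of_invariant {W : M2} (hW : Singer W) (A : AddSubgroup (Fin 2 → F))
    (hA : ∀ η ∈ A, η ᵥ* W ∈ A) {η₀ : Fin 2 → F} (h₀ : η₀ ∈ A) (hne : η₀ ≠ 0) : A = ⊤ := by
  classical
  obtain ⟨p, hchar⟩ := CharP.exists F
  obtain ⟨f, hp, hcard⟩ := FiniteField.card F p
  haveI := Fact.mk hp
  have hmem : ∀ k : ℕ, ∀ η ∈ A, η ᵥ* (W ^ k) ∈ A := by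
    intro k
    induction k with
    | zero => intro η h; rwa [pow_zero, vecMul_one]
    | succ k ih => intro η h; rw [pow_succ, ← vecMul_vecMul]; exact hA _ (ih η h)
  set N := Fintype.card F + 1
  haveI : NeZero N := ⟨by omega⟩
  have hper : ∀ a : ℕ, W ^ (a % N) = W ^ a := fun a => (pow_eq_pow_mod a hW.pow_eq_one).symm
  letI : MulAction (Multiplicative (ZMod N)) {η : A // η ≠ 0} :=
    { smul := fun k η => ⟨⟨η.1.1 ᵥ* W ^ (Multiplicative.toAdd k).val, hmem _ _ η.1.2⟩, by
        intro e
        apply η.2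
        have e' : η.1.1 ᵥ* W ^ (Multiplicative.toAdd k).val = 0 := congrArg Subtype.val e
        have h := congrArg (fun v => v ᵥ* W ^ (N - (Multiplicative.toAdd k).val)) e'
        beta_reduce at h
        rw [vecMul_vecMul, ← pow_add, Nat.add_sub_cancel' (ZMod.val_lt _).le, hW.pow_eq_one,
          vecMul_one, zero_vecMul] at h
        exact Subtype.ext h⟩
      one_smul := fun η => by
        refine Subtype.ext (Subtype.ext ?_)
        show η.1.1 ᵥ* W ^ (Multiplicative.toAdd (1 : Multiplicative (ZMod N))).val = η.1.1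
        rw [toAdd_one, ZMod.val_zero, pow_zero, vecMul_one]
      mul_smul := fun a b η => by
        refine Subtype.ext (Subtype.ext ?_)
        show η.1.1 ᵥ* W ^ (Multiplicative.toAdd (a * b)).val =
          (η.1.1 ᵥ* W ^ (Multiplicative.toAdd b).val) ᵥ* W ^ (Multiplicative.toAdd a).val
        rw [vecMul_vecMul, ← pow_add, toAdd_mul, ZMod.val_add, hper, add_comm] }
  have hfree : ∀ η : {η : A // η ≠ 0}, MulAction.stabilizer (Multiplicative (ZMod N)) η = ⊥ := by
    intro η
    rw [eq_bot_iff]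
    intro k hk
    rw [MulAction.mem_stabilizer_iff] at hk
    have e : η.1.1 ᵥ* W ^ (Multiplicative.toAdd k).val = η.1.1 :=
      congrArg (fun x : {η : A // η ≠ 0} => x.1.1) hk
    rw [Subgroup.mem_bot]
    by_contra hk1
    have hv : (Multiplicative.toAdd k).val ≠ 0 := fun h =>
      hk1 (toAdd_eq_zero.mp ((ZMod.val_eq_zero _).mp h))
    have hd := hW.det_pow_sub_one _ (Nat.pos_of_ne_zero hv) (ZMod.val_lt _)
    apply η.2
    refine Subtype.ext ?_
    have := Matrix.eq_zero_of_vecMul_eq_zero hd (v := η.1.1) (by rw [vecMul_sub, vecMul_one, e, sub_self])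
    exact this
  have hdvd : N ∣ Nat.card {η : A // η ≠ 0} := by
    rw [Nat.card_congr (MulAction.selfEquivOrbitsQuotientProd hfree), Nat.card_prod]
    refine dvd_mul_of_dvd_right (dvd_of_eq ?_) _
    show N = Nat.card (Multiplicative (ZMod N))
    rw [Nat.card_congr Multiplicative.toAdd, Nat.card_zmod]
  have hAdvd : Nat.card A ∣ p ^ (2 * (f : ℕ)) := by
    have := A.card_addSubgroup_dvd_card
    rwa [Nat.card_fun, Nat.card_eq_fintype_card (α := F), Nat.card_fin, hcard, ← pow_mul, mul_comm (f : ℕ)] at this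
  obtain ⟨d, hd2, hd⟩ := (Nat.dvd_prime_pow hp).mp hAdvd
  have hsub : Nat.card {η : A // η ≠ 0} = Nat.card A - 1 := by
    rw [Nat.card_eq_fintype_card, Nat.card_eq_fintype_card, Fintype.card_subtype_compl,
      Fintype.card_subtype_eq]
  rw [hsub, hd] at hdvd
  have hd1 : 1 < Nat.card A := Finite.one_lt_card_iff_nontrivial.mpr
    ⟨⟨⟨η₀, h₀⟩, 0, fun e => hne (congrArg Subtype.val e)⟩⟩
  have hpd : 1 < p ^ d := hd ▸ hd1
  have hNq : N = p ^ (f : ℕ) + 1 := by rw [← hcard]
  rw [hNq] at hdvd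
  have hfd : (f : ℕ) < d := by
    have h' : p ^ (f : ℕ) + 1 ≤ p ^ d - 1 := Nat.le_of_dvd (by omega) hdvd
    exact (Nat.pow_lt_pow_iff_right hp.one_lt).mp (by omega)
  have hdf : d = 2 * (f : ℕ) := by
    obtain ⟨e, rfl⟩ : ∃ e, d = f + e := ⟨d - f, by omega⟩
    have h' : p ^ (f : ℕ) + 1 ∣ p ^ e + 1 := by
      obtain ⟨c, hc⟩ := hdvd
      have h1 : (p ^ (f : ℕ) + 1) * p ^ e = p ^ ((f : ℕ) + e) + p ^ e := by rw [pow_add]; ring
      have h2 : (p ^ (f : ℕ) + 1) * p ^ e = (p ^ (f : ℕ) + 1) * c + (p ^ e + 1) := by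
        rw [h1, ← hc]; omega
      exact (Nat.dvd_add_right (dvd_mul_right _ c)).mp (h2 ▸ dvd_mul_right _ _)
    have h'' : p ^ (f : ℕ) ≤ p ^ e := by have := Nat.le_of_dvd (by positivity) h'; omega
    have := (Nat.pow_le_pow_iff_right hp.one_lt).mp h''
    omega
  refine AddSubgroup.eq_top_of_card_eq A ?_
  rw [hd, hdf, Nat.card_fun, Nat.card_eq_fintype_card (α := F), Nat.card_fin, hcard, ← pow_mul,
    mul_comm (f : ℕ)]

end CfsgLib.TwoBlock
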