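/-
Two regular unipotent elements generating `SL_n`, `n ≥ 4`.
-/
import Cfsg.Agent.Lib.SLGen.FullCentre
import Cfsg.Agent.Lib.SLGen.TwoBlock
import Cfsg.Agent.Lib.SLGen.Triangular

set_option autoImplicit false

namespace CfsgLib.SLGen2

open Matrix CfsgLib.PSLn CfsgLib.SLCentre
open CfsgLib.SLGen (iL iP)

variable {F : Type*} [Field F] {d : ℕ}

local notation "V" => Fin (d + 4) → F
local notation "SL" => Matrix.SpecialLinearGroup (Fin (d + 4)) F
local notation "Mat" => Matrix (Fin (d + 4)) (Fin (d + 4)) F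

abbrev i0 : Fin (d + 4) := ⟨0, by omega⟩
abbrev i1 : Fin (d + 4) := ⟨1, by omega⟩
abbrev i2 : Fin (d + 4) := ⟨2, by omega⟩

theorem h01 : (i0 : Fin (d + 4)) ≠ i1 := by simp [Fin.ext_iff]
theorem h12 : (i1 : Fin (d + 4)) ≠ i2 := by simp [Fin.ext_iff]
theorem hL0 : (iL : Fin (d + 4)) ≠ i0 := by simp [Fin.ext_iff]

theorem xx_mulVec (i j : Fin (d + 4)) (hij : i ≠ j) (a : F) (z : V) (k : Fin (d + 4)) :
    ((xx i j hij a).1 *ᵥ z) k = z k + if k = i then a * z j else 0 := by
  rw [coe_xx, add_mulVec, one_mulVec, Pi.add_apply]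
  congr 1
  rw [Matrix.mulVec, dotProduct, Finset.sum_eq_single j]
  · by_cases hk : k = i
    · rw [hk, Matrix.single_apply_same, if_pos rfl]
    · rw [Matrix.single_apply_of_row_ne (Ne.symm hk), if_neg hk, zero_mul]
  · intro l _ hl; rw [Matrix.single_apply, if_neg (fun e => hl e.2.symm), zero_mul]
  · simp

theorem xx_vecMul (i j : Fin (d + 4)) (hij : i ≠ j) (a : F) (φ : V) (k : Fin (d + 4)) :
    (φ ᵥ* (xx i j hij a).1) k = φ k + if k = j then φ i * a else 0 := by
  rw [coe_xx, vecMul_add, vecMul_one, Pi.add_apply]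
  congr 1
  rw [Matrix.vecMul, dotProduct, Finset.sum_eq_single i]
  · by_cases hk : k = j
    · rw [hk, Matrix.single_apply_same, if_pos rfl]
    · rw [Matrix.single_apply, if_neg (fun e => hk e.2.symm), if_neg hk, mul_zero]
  · intro l _ hl; rw [Matrix.single_apply, if_neg (fun e => hl e.1.symm), mul_zero]
  · simp

/-- The common chain on the last coordinates. -/
def rS : SL := ⟨Matrix.of fun i j =>
    if i = j then 1 else if 2 ≤ (i : ℕ) ∧ (i : ℕ) + 1 = j then 1 else 0, by
  rw [Matrix.det_of_upperTriangular]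
  · exact Finset.prod_eq_one fun i _ => by simp
  · intro i j hij
    have hij' : (j : ℕ) < (i : ℕ) := hij
    have hne : i ≠ j := fun e => by subst e; omega
    simp [hne, show ¬ (i : ℕ) + 1 = j by omega]⟩

theorem rS_mulVec (z : V) (k : Fin (d + 4)) :
    ((rS : SL).1 *ᵥ z) k = z k +
      if h : 2 ≤ (k : ℕ) ∧ (k : ℕ) + 1 < d + 4 then z ⟨(k : ℕ) + 1, h.2⟩ else 0 := by
  classical
  show ∑ l, (rS : SL).1 k l * z l = _
  rw [← Finset.add_sum_erase _ _ (Finset.mem_univ k)]
  congr 1
  · simp [rS]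
  · split_ifs with h
    · rw [Finset.sum_eq_single ⟨(k : ℕ) + 1, h.2⟩]
      · simp [rS, Fin.ext_iff, h.1]
      · intro l hl hne
        have hlk : k ≠ l := (Finset.ne_of_mem_erase hl).symm
        have : ¬ (k : ℕ) + 1 = l := fun e => hne (Fin.ext e.symm)
        simp [rS, hlk, this]
      · intro hc; exact absurd (Finset.mem_erase.mpr ⟨by simp [Fin.ext_iff], Finset.mem_univ _⟩) hc
    · refine Finset.sum_eq_zero fun l hl => ?_
      have hlk : k ≠ l := (Finset.ne_of_mem_erase hl).symm
      have : ¬ (2 ≤ (k : ℕ) ∧ (k : ℕ) + 1 = l) := fun e => h ⟨e.1, e.2 ▸ l.isLt⟩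
      simp only [rS, Matrix.of_apply, if_neg hlk, if_neg this, zero_mul]

theorem rS_vecMul (φ : V) (k : Fin (d + 4)) :
    (φ ᵥ* (rS : SL).1) k = φ k + if 3 ≤ (k : ℕ) then φ ⟨(k : ℕ) - 1, by omega⟩ else 0 := by
  classical
  show ∑ l, φ l * (rS : SL).1 l k = _
  rw [← Finset.add_sum_erase _ _ (Finset.mem_univ k)]
  congr 1
  · simp [rS]
  · split_ifs with h
    · rw [Finset.sum_eq_single ⟨(k : ℕ) - 1, by omega⟩]
      · simp [rS, Fin.ext_iff, show (k : ℕ) - 1 + 1 = k by omega, show 2 ≤ (k : ℕ) - 1 by omega]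
      · intro l hl hne
        have hlk : l ≠ k := Finset.ne_of_mem_erase hl
        have : ¬ (l : ℕ) + 1 = k := fun e => hne (Fin.ext (by simp only; omega))
        simp [rS, hlk, this]
      · intro hc
        exact absurd (Finset.mem_erase.mpr ⟨by simp [Fin.ext_iff]; omega, Finset.mem_univ _⟩) hc
    · refine Finset.sum_eq_zero fun l hl => ?_
      have hlk : l ≠ k := Finset.ne_of_mem_erase hl
      have : ¬ (2 ≤ (l : ℕ) ∧ (l : ℕ) + 1 = k) := fun e => by omega
      simp only [rS, Matrix.of_apply, if_neg hlk, if_neg this, mul_zero]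

/-- The upper block part. -/
def xS (s : F) : SL :=
  xx i1 i2 h12 1 * (xx i1 i0 h01.symm s * xx i0 i1 h01 s⁻¹ * xx i1 i0 h01.symm (-s))

/-- The first generator. -/
def uS (s : F) : SL := xS s * rS

/-- The second generator. -/
def vS (θ : F) : SL := xx iL i0 hL0 θ * xx i0 i1 h01 1 * rS

/-- Their quotient. -/
def wS (s θ : F) : SL :=
  xx iL i0 hL0 θ * xx i0 i1 h01 1 *
    (xx i1 i0 h01.symm s * xx i0 i1 h01 (-s⁻¹) * xx i1 i0 h01.symm (-s)) * xx i1 i2 h12 (-1)

theorem wS_eq (s θ : F) : (wS s θ : SL) = vS θ * (uS s)⁻¹ := by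
  simp only [wS, vS, uS, xS, _root_.mul_inv_rev, CfsgLib.PSLn.xx_inv, neg_neg, ← mul_assoc,
    mul_inv_cancel_right]

theorem coe_single {i : Fin (d + 4)} (k : Fin (d + 4)) :
    (Pi.single i (1 : F) : V) k = if k = i then 1 else 0 := Pi.single_apply i 1 k

theorem wS_mulVec {s : F} (hs : s ≠ 0) (θ : F) (z : V) :
    (wS s θ).1 *ᵥ z = z + ((1 + s) * z i0 - (z i1 - z i2) / s) • Pi.single i0 1 +
      (s * z i0 - z i1) • Pi.single i1 1 +
      (θ * ((2 + s) * z i0 - (z i1 - z i2) / s)) • Pi.single iL 1 := by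
  funext k
  simp only [wS, SpecialLinearGroup.coe_mul, ← mulVec_mulVec, xx_mulVec, Pi.add_apply, Pi.smul_apply,
    coe_single, smul_eq_mul, Fin.ext_iff]
  have := k.isLt
  by_cases h0 : (k : ℕ) = 0
  · simp [h0]; field_simp; ring
  by_cases h1 : (k : ℕ) = 1
  · simp [h1]; field_simp; ring
  by_cases hL : (k : ℕ) = d + 3
  · simp [hL]; (try field_simp); ring_nf; (try simp)
  simp [h0, h1, hL]

theorem wS_vecMul {s : F} (hs : s ≠ 0) (θ : F) (φ : V) :
    φ ᵥ* (wS s θ).1 = φ + ((1 + s) * φ i0 + (2 + s) * θ * φ iL + s * φ i1) • Pi.single i0 1 +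
      (-(φ i0 + θ * φ iL) / s - φ i1) • Pi.single i1 1 +
      ((φ i0 + θ * φ iL) / s) • Pi.single i2 1 := by
  funext k
  simp only [wS, SpecialLinearGroup.coe_mul, ← vecMul_vecMul, xx_vecMul, Pi.add_apply, Pi.smul_apply,
    coe_single, smul_eq_mul, Fin.ext_iff]
  have := k.isLt
  by_cases h0 : (k : ℕ) = 0
  · simp [h0]; field_simp; ring
  by_cases h1 : (k : ℕ) = 1
  · simp [h1]; field_simp; ring
  by_cases h2 : (k : ℕ) = 2
  · simp [h2]; field_simp; ring
  simp [h0, h1, h2]

/-- The block of the quotient. -/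
def W2 (s : F) : Matrix (Fin 2) (Fin 2) F := !![2 + s, -s⁻¹; s, 0]

theorem W2_facts {s : F} (hs : s ≠ 0) : (W2 s).det = 1 ∧ (W2 s).trace = 2 + s ∧
    ∀ a : F, W2 s ≠ a • (1 : Matrix (Fin 2) (Fin 2) F) := by
  refine ⟨by simp [W2, det_fin_two_of, hs], by simp [W2, trace_fin_two], fun a e => hs ?_⟩
  have := congrFun (congrFun e 1) 0
  simpa [W2] using this

/-- Block vectors. -/
def blk (η : Fin 2 → F) : V := η 0 • Pi.single i0 1 + η 1 • Pi.single i1 1

theorem blk_apply (η : Fin 2 → F) (k : Fin (d + 4)) :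
    (blk η : V) k = if k = i0 then η 0 else if k = i1 then η 1 else 0 := by
  simp only [blk, Pi.add_apply, Pi.smul_apply, coe_single, smul_eq_mul, Fin.ext_iff]
  (try split_ifs) <;> simp_all

theorem blk_add (η ζ : Fin 2 → F) : (blk (η + ζ) : V) = blk η + blk ζ := by
  simp only [blk, Pi.add_apply, add_smul]; abel

theorem blk_smul (a : F) (η : Fin 2 → F) : (blk (a • η) : V) = a • blk η := by
  simp [blk, smul_add, mul_smul]

theorem wS_mulVec_eL {s : F} (hs : s ≠ 0) (θ : F) :
    (wS s θ).1 *ᵥ (Pi.single iL 1 : V) = Pi.single iL 1 := by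
  rw [wS_mulVec hs]
  simp [coe_single, Fin.ext_iff]

theorem wS_mulVec_blk {s : F} (hs : s ≠ 0) (θ : F) (η : Fin 2 → F) :
    (wS s θ).1 *ᵥ (blk η : V) = blk (W2 s *ᵥ η) + (θ * (W2 s *ᵥ η) 0) • Pi.single iL 1 := by
  rw [wS_mulVec hs]
  funext k
  have : (W2 s *ᵥ η) 0 = (2 + s) * η 0 - η 1 / s := by
    simp [W2, Matrix.mulVec, dotProduct, Fin.sum_univ_two]; ring
  have h' : (W2 s *ᵥ η) 1 = s * η 0 := by
    simp [W2, Matrix.mulVec, dotProduct, Fin.sum_univ_two]
  simp only [Pi.add_apply, Pi.smul_apply, blk_apply, coe_single, smul_eq_mul, Fin.ext_iff, this, h']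
  have := k.isLt
  by_cases h0 : (k : ℕ) = 0
  · simp [h0]; ring
  by_cases h1 : (k : ℕ) = 1
  · simp [h1]
  by_cases hL : (k : ℕ) = d + 3
  · simp [hL]
  simp [h0, h1, hL]

theorem wS_pow [Fintype F] {s : F} (hs : s ≠ 0) (θ : F) (hW : TwoBlock.Singer (W2 s)) :
    ((wS s θ : SL) ^ (Fintype.card F + 1)).1 = 1 + single iL i2 (-(θ / s ^ 2)) := by
  classical
  set N := Fintype.card F + 1
  set e : Fin (d + 4) → V := fun i => Pi.single i 1
  have hmv : ∀ (k : ℕ) (z : V),
      ((wS s θ : SL) ^ (k + 1)).1 *ᵥ z = (wS s θ).1 *ᵥ (((wS s θ : SL) ^ k).1 *ᵥ z) := fun k z => by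
    rw [pow_succ', SpecialLinearGroup.coe_mul, ← mulVec_mulVec]
  have heL : ∀ k : ℕ, ((wS s θ : SL) ^ k).1 *ᵥ (Pi.single iL 1 : V) = Pi.single iL 1 := by
    intro k
    induction k with
    | zero => rw [pow_zero, SpecialLinearGroup.coe_one, one_mulVec]
    | succ k ih => rw [hmv, ih, wS_mulVec_eL hs]
  have hk : ∀ (k : ℕ) (η : Fin 2 → F), ∃ μ : F,
      ((wS s θ : SL) ^ k).1 *ᵥ (blk η : V) = blk (W2 s ^ k *ᵥ η) + μ • Pi.single iL 1 := by
    intro k η
    induction k with
    | zero => exact ⟨0, by simp⟩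
    | succ k ih =>
      obtain ⟨μ, hμ⟩ := ih
      refine ⟨μ + θ * (W2 s *ᵥ (W2 s ^ k *ᵥ η)) 0, ?_⟩
      rw [hmv, hμ, mulVec_add, mulVec_smul, wS_mulVec_eL hs, wS_mulVec_blk hs, mulVec_mulVec, ← pow_succ',
        add_smul]
      abel
  have hblk : ∀ η : Fin 2 → F, ((wS s θ : SL) ^ N).1 *ᵥ (blk η : V) = blk η := by
    intro η
    have hu : IsUnit (W2 s - 1).det := hW.sub_one.isUnit
    set ζ := (W2 s - 1)⁻¹ *ᵥ η with hζ
    have hη : η = W2 s *ᵥ ζ - ζ := by
      have := congrArg (fun A : Matrix (Fin 2) (Fin 2) F => A *ᵥ η) (Matrix.mul_nonsing_inv _ hu)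
      beta_reduce at this
      rw [← mulVec_mulVec, sub_mulVec, one_mulVec, one_mulVec] at this
      exact this.symm
    obtain ⟨μ, hμ⟩ := hk N ζ
    rw [hW.pow_eq_one, one_mulVec] at hμ
    have hsub : (blk η : V) = (wS s θ).1 *ᵥ blk ζ - blk ζ -
        (θ * (W2 s *ᵥ ζ) 0) • Pi.single iL 1 := by
      rw [wS_mulVec_blk hs, hη]
      rw [show (blk (W2 s *ᵥ ζ - ζ) : V) = blk (W2 s *ᵥ ζ) - blk ζ by
        simp only [blk, Pi.sub_apply, sub_smul]; abel]
      abel
    have hcomm : ((wS s θ : SL) ^ N).1 *ᵥ ((wS s θ).1 *ᵥ (blk ζ : V)) =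
        (wS s θ).1 *ᵥ (((wS s θ : SL) ^ N).1 *ᵥ blk ζ) := by
      rw [mulVec_mulVec, mulVec_mulVec, ← SpecialLinearGroup.coe_mul, ← SpecialLinearGroup.coe_mul,
        ← pow_succ, pow_succ']
    conv_lhs => rw [hsub]
    rw [mulVec_sub, mulVec_sub, hcomm, hμ, mulVec_smul, heL, mulVec_add, mulVec_smul, wS_mulVec_eL hs]
    rw [hsub]
    abel
  set ζ2 : Fin 2 → F := ![-(1 / s ^ 2), -(1 / s)]
  have hz : ∀ k : ℕ, ((wS s θ : SL) ^ k).1 *ᵥ (Pi.single i2 1 + blk ζ2 : V) =
      Pi.single i2 1 + blk ζ2 + ((k : F) * -(θ / s ^ 2)) • Pi.single iL 1 := by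
    intro k
    induction k with
    | zero => simp
    | succ k ih =>
      have h1 : (wS s θ).1 *ᵥ (Pi.single i2 1 + blk ζ2 : V) =
          Pi.single i2 1 + blk ζ2 + (-(θ / s ^ 2)) • Pi.single iL 1 := by
        rw [wS_mulVec hs]
        funext j
        simp only [Pi.add_apply, Pi.smul_apply, blk_apply, coe_single, smul_eq_mul, Fin.ext_iff]
        have := j.isLt
        simp [ζ2]
        (try split_ifs) <;> (try contradiction) <;> (try (exfalso; (try simp only [Fin.ext_iff, Fin.val_zero] at *); omega)) <;> field_simp <;> ring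
      rw [hmv, ih, mulVec_add, h1, mulVec_smul, wS_mulVec_eL hs, Nat.cast_succ, add_mul, one_mul, add_smul]
      abel
  refine Matrix.ext_of_mulVec_single fun i => ?_
  rw [add_mulVec, one_mulVec]
  have hsingle : ∀ l : Fin (d + 4), (single iL i2 (-(θ / s ^ 2)) : Mat) *ᵥ (Pi.single l 1 : V) =
      if l = i2 then (-(θ / s ^ 2)) • Pi.single iL 1 else 0 := fun l => by
    funext k
    rw [mulVec_single_one]
    by_cases hl : l = i2 <;> by_cases hkL : k = iL <;>
      simp [hl, hkL, Matrix.single_apply, Ne.symm, coe_single] <;> simp_all [eq_comm]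
  rw [hsingle]
  by_cases hi0 : i = i0
  · subst hi0
    rw [show (Pi.single i0 1 : V) = blk ![1, 0] by simp [blk], hblk, if_neg (by simp [Fin.ext_iff]),
      add_zero]
  by_cases hi1 : i = i1
  · subst hi1
    rw [show (Pi.single i1 1 : V) = blk ![0, 1] by simp [blk], hblk, if_neg (by simp [Fin.ext_iff]),
      add_zero]
  by_cases hi2 : i = i2
  · subst hi2
    rw [if_pos rfl]
    have h := hz N
    rw [mulVec_add, hblk] at h
    rw [show ((N : ℕ) : F) = 1 by simp [N, FiniteField.cast_card_eq_zero], one_mul] at h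
    exact add_right_cancel (h.trans (by abel))
  · rw [if_neg hi2, add_zero]
    have h1 : (wS s θ).1 *ᵥ (Pi.single i 1 : V) = Pi.single i 1 := by
      rw [wS_mulVec hs]
      simp only [coe_single, if_neg (Ne.symm hi0), if_neg (Ne.symm hi1), if_neg (Ne.symm hi2)]
      simp
    have : ∀ k : ℕ, ((wS s θ : SL) ^ k).1 *ᵥ (Pi.single i 1 : V) = Pi.single i 1 := by
      intro k
      induction k with
      | zero => rw [pow_zero, SpecialLinearGroup.coe_one, one_mulVec]
      | succ k ih => rw [hmv, ih, h1]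
    exact this N

theorem vS_mulVec (θ : F) (z : V) (k : Fin (d + 4)) : ((vS θ).1 *ᵥ z) k =
    (((rS : SL).1 *ᵥ z) k + if k = i0 then z i1 else 0) + if k = iL then θ * (z i0 + z i1) else 0 := by
  simp only [vS, SpecialLinearGroup.coe_mul, ← mulVec_mulVec, xx_mulVec, rS_mulVec, Fin.ext_iff, one_mul]
  simp

theorem vS_vecMul (θ : F) (φ : V) (k : Fin (d + 4)) :
    (φ ᵥ* (vS θ).1) k =
      ((φ + (φ iL * θ) • Pi.single i0 1 + (φ i0 + φ iL * θ) • Pi.single i1 1 : V) ᵥ* (rS : SL).1) k := by
  simp only [vS, SpecialLinearGroup.coe_mul, ← vecMul_vecMul]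
  congr 1
  congr 1
  funext j
  simp only [xx_vecMul, Pi.add_apply, Pi.smul_apply, coe_single, smul_eq_mul, Fin.ext_iff]
  have := j.isLt
  by_cases h0 : (j : ℕ) = 0
  · simp [h0]
  by_cases h1 : (j : ℕ) = 1
  · simp [h1]
  simp [h0, h1]

variable [Fintype F]

theorem generate {s θ : F} (hs : s ≠ 0) (hθ : θ ≠ 0) (hW : TwoBlock.Singer (W2 s))
    (hk : ∃ k : ℕ, (k : F) * -(θ / s ^ 2) = 1) :
    Subgroup.closure ({uS s, vS θ} : Set SL) = ⊤ := by
  classical
  set H := Subgroup.closure ({uS s, vS θ} : Set SL)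
  have huH : uS s ∈ H := Subgroup.subset_closure (by simp)
  have hvH : vS θ ∈ H := Subgroup.subset_closure (by simp)
  have hwH : wS s θ ∈ H := wS_eq s θ ▸ mul_mem hvH (inv_mem huH)
  set eL : V := Pi.single iL 1 with heL
  set eP : V := Pi.single iP 1 with heP
  let D : V → Prop := fun φ => HasTv H eL φ
  -- the first transvection
  have hD2 : D (Pi.single i2 1) := by
    obtain ⟨k, hk⟩ := hk
    have hne : (iL : Fin (d + 4)) ≠ i2 := by simp [Fin.ext_iff]
    have hx : HasTv H eL ((-(θ / s ^ 2)) • Pi.single i2 1 : V) := by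
      have e : (-(θ / s ^ 2)) • (Pi.single i2 1 : V) ⬝ᵥ eL = 0 := by
        simp [heL, Fin.ext_iff]
      refine ⟨e, ?_⟩
      convert pow_mem hwH (Fintype.card F + 1) using 1
      apply Subtype.ext
      rw [coe_tv, wS_pow hs θ hW]
      congr 1
      ext a b
      simp only [vecMulVec_apply, Matrix.single_apply, Pi.smul_apply, heL, coe_single, smul_eq_mul]
      by_cases ha : a = iL <;> by_cases hb : b = i2 <;> simp [ha, hb, eq_comm] <;> simp_all
    have := hx.nsmul k
    rwa [smul_smul, hk, one_smul] at this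
  -- the image and preimage of the centre
  set z : V := fun i => if 2 ≤ (i : ℕ) then (-1) ^ (d + 3 - (i : ℕ)) else 0 with hz
  have hvz : (vS θ).1 *ᵥ z = eL := by
    funext k
    rw [vS_mulVec, rS_mulVec, heL, coe_single]
    have := k.isLt
    by_cases hkL : (k : ℕ) = d + 3
    · have hk' : k = iL := Fin.ext hkL
      subst hk'
      rw [dif_neg (fun h => by simp only at h; omega), if_neg (fun h => hL0 h), if_pos rfl, if_pos rfl]
      simp only [hz]
      rw [if_pos (show 2 ≤ d + 3 by omega), if_neg (show ¬ 2 ≤ 0 by omega), if_neg (show ¬ 2 ≤ 1 by omega),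
        Nat.sub_self]
      simp
    by_cases hk2 : 2 ≤ (k : ℕ)
    · have e : d + 3 - (k : ℕ) = d + 3 - ((k : ℕ) + 1) + 1 := by omega
      rw [dif_pos ⟨hk2, by omega⟩, if_neg (fun h => by rw [h] at hk2; exact absurd hk2 (show ¬ 2 ≤ 0 by omega)),
        if_neg (fun h => hkL (congrArg Fin.val h)), if_neg (fun h => hkL (congrArg Fin.val h))]
      simp only [hz]
      rw [if_pos hk2, if_pos (show 2 ≤ (k : ℕ) + 1 by omega), e, pow_succ]
      ring
    · have hk01 : k = i0 ∨ k = i1 := by
        rcases (show (k : ℕ) = 0 ∨ (k : ℕ) = 1 by omega) with e | e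
        · exact Or.inl (Fin.ext e)
        · exact Or.inr (Fin.ext e)
      have hz1 : z i1 = 0 := by simp only [hz]; rw [if_neg (show ¬ 2 ≤ 1 by omega)]
      rw [dif_neg (fun h => hk2 h.1), hz1, ite_self, if_neg (fun h => hkL (congrArg Fin.val h)),
        if_neg (fun h => hkL (congrArg Fin.val h))]
      simp only [hz]
      rw [if_neg hk2]
      simp
  have hveL : (vS θ).1 *ᵥ eL = eL + eP := by
    funext k
    rw [vS_mulVec, rS_mulVec, heL, heP, Pi.add_apply]
    simp only [coe_single, Fin.ext_iff]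
    have := k.isLt
    (try split_ifs) <;> (try contradiction) <;> (try (exfalso; (try simp only [Fin.ext_iff, Fin.val_zero] at *); omega)) <;>
      first | (simp; done) | (intros; omega) | (ring; done)
  -- the shift
  have shift : ∀ φ₁ φ₂ : V, D φ₁ → D φ₂ → φ₂ iP = 0 → D ((φ₁ ⬝ᵥ z) • (φ₂ ᵥ* (vS θ).1)) := by
    intro φ₁ φ₂ h1 h2 hP
    refine h1.comm (h2.conj' hvH hvz) ?_
    rw [← dotProduct_mulVec, hveL, dotProduct_add, h2.dot, zero_add, heP, dotProduct_single, hP, zero_mul]
  set σ2 : F := (-1) ^ (d + 1) with hσ2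
  have hσ : σ2 * σ2 = 1 := by rw [hσ2, ← mul_pow, neg_one_mul, neg_neg, one_pow]
  have he2z : (Pi.single i2 1 : V) ⬝ᵥ z = σ2 := by
    rw [single_dotProduct, one_mul, hz]
    simp [hσ2, show d + 3 - 2 = d + 1 by omega]
  have hev : ∀ (j : Fin (d + 4)) (j' : Fin (d + 4)), 2 ≤ (j : ℕ) → (j' : ℕ) = j + 1 →
      (Pi.single j 1 : V) ᵥ* (vS θ).1 = Pi.single j 1 + Pi.single j' 1 := by
    intro j j' hj hj'
    funext k
    have := j'.isLt
    have hjL : ¬ (j : ℕ) = d + 3 := by omega
    rw [vS_vecMul, rS_vecMul]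
    simp only [Pi.add_apply, Pi.smul_apply, coe_single, Fin.ext_iff, smul_eq_mul]
    have := k.isLt
    (try split_ifs) <;> (try contradiction) <;> (try (exfalso; (try simp only [Fin.ext_iff, Fin.val_zero] at *); omega)) <;>
      first | (simp; done) | (intros; omega) | (ring; done)
  have hsign : ∀ φ : V, D (σ2 • φ) → D φ := by
    intro φ h
    rcases mul_self_eq_one_iff.mp hσ with e | e
    · rwa [e, one_smul] at h
    · rw [e, neg_one_smul] at h; simpa using h.neg
  have hDj : ∀ (m : ℕ) (j : Fin (d + 4)), (j : ℕ) = m + 2 → (j : ℕ) ≤ d + 2 → D (Pi.single j 1) := by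
    intro m
    induction m with
    | zero => intro j hj _; obtain rfl : j = i2 := Fin.ext hj; exact hD2
    | succ m ih =>
      intro j hj hjP
      set j₀ : Fin (d + 4) := ⟨m + 2, by omega⟩
      have h0 := ih j₀ rfl (by simp [j₀]; omega)
      have := shift _ _ hD2 h0 (by simp [coe_single, Fin.ext_iff, j₀]; omega)
      rw [he2z, hev j₀ j (by simp [j₀]) (by simp [j₀]; omega)] at this
      have := (hsign _ this).sub h0
      rwa [add_sub_cancel_left] at this
  have hDP : D eP := hDj d iP rfl le_rfl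
  -- a transvection with axis the last coordinate
  set Z : V := z - eL with hZdef
  have hvZ : (vS θ).1 *ᵥ Z = -eP := by rw [hZdef, mulVec_sub, hvz, hveL]; abel
  have hZtv : HasTv H Z eL := by
    have hA : HasTv H z (eP ᵥ* (vS θ).1) := hDP.conj' hvH hvz
    obtain ⟨e, m⟩ := hDP
    have hc : (tv eL eP e).1 *ᵥ z = Z := by
      rw [coe_tv, add_mulVec, one_mulVec, vecMulVec_mulVec]
      have : eP ⬝ᵥ z = -1 := by
        rw [heP, single_dotProduct, one_mul, hz]
        simp [show d + 3 - (d + 2) = 1 by omega]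
      rw [this, hZdef]
      funext k; simp [sub_eq_add_neg]
    have := HasTv.conj m (c := z) (φ := eL) (by
      convert hA using 1
      funext k
      rw [coe_tv, vecMul_add, vecMul_one, vecMul_vecMulVec, vS_vecMul, rS_vecMul]
      simp only [Pi.add_apply, Pi.smul_apply, heL, heP, dotProduct_single, coe_single, Fin.ext_iff,
        smul_eq_mul]
      have := k.isLt
      (try split_ifs) <;> (try contradiction) <;> (try (exfalso; (try simp only [Fin.ext_iff, Fin.val_zero] at *); omega)) <;>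
      first | (simp; done) | (intros; omega) | (ring; done))
    rwa [hc] at this
  have hP1 : HasTv H (-eP) eL := by
    by_cases hd : d = 0
    · convert hZtv using 1
      subst hd
      funext k
      simp only [hZdef, hz, heL, heP, Pi.sub_apply, Pi.neg_apply, coe_single, Fin.ext_iff]
      have := k.isLt
      rcases k with ⟨_ | _ | _ | _ | k, hk⟩ <;> simp at * <;> omega
    · have hRZ : (rS : SL).1 *ᵥ Z = -eP := by
        funext k
        have hZ0 : Z i0 = 0 := by simp [hZdef, hz, heL, coe_single, Fin.ext_iff]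
        have hZ1 : Z i1 = 0 := by simp [hZdef, hz, heL, coe_single, Fin.ext_iff]
        have h := congrFun hvZ k
        rw [vS_mulVec, hZ0, hZ1] at h
        simp only [add_zero, mul_zero, ite_self] at h
        simpa using h
      have huZ : (uS s).1 *ᵥ Z = -eP := by
        rw [uS, SpecialLinearGroup.coe_mul, ← mulVec_mulVec, hRZ]
        funext k
        simp only [xS, SpecialLinearGroup.coe_mul, ← mulVec_mulVec, xx_mulVec, heP, Pi.neg_apply,
          coe_single, Fin.ext_iff]
        simp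
        (try split_ifs) <;> (try contradiction) <;> (try (exfalso; (try simp only [Fin.ext_iff, Fin.val_zero] at *); omega)) <;>
      first | (simp; done) | (intros; omega) | (ring; done)
      have haxis : eL ᵥ* (uS s).1 = eL := by
        funext k
        simp only [uS, xS, SpecialLinearGroup.coe_mul, ← vecMul_vecMul, rS_vecMul, xx_vecMul, heL,
          coe_single, Fin.ext_iff]
        have := k.isLt
        simp
        (try split_ifs) <;> (try contradiction) <;> (try (exfalso; (try simp only [Fin.ext_iff, Fin.val_zero] at *); omega)) <;>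
      first | (simp; done) | (intros; omega) | (ring; done)
      have := HasTv.conj huH (c := Z) (φ := eL) (by rw [haxis]; exact hZtv)
      rwa [huZ] at this
  have hP2 : HasTv H (-eP) (eL - θ • Pi.single i0 1) := by
    have haxis : (eL - θ • Pi.single i0 1) ᵥ* (vS θ).1 = eL := by
      funext k
      rw [vS_vecMul, rS_vecMul]
      simp only [Pi.add_apply, Pi.sub_apply, Pi.smul_apply, heL, coe_single, Fin.ext_iff, smul_eq_mul]
      have := k.isLt
      simp
      (try split_ifs) <;> (try contradiction) <;> (try (exfalso; (try simp only [Fin.ext_iff, Fin.val_zero] at *); omega)) <;>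
      first | (simp; done) | (intros; omega) | (ring; done)
    have := HasTv.conj hvH (c := Z) (φ := eL - θ • Pi.single i0 1) (by rw [haxis]; exact hZtv)
    rwa [hvZ] at this
  have hD0 : D (θ • Pi.single i0 1) := by
    have h := hP1.sub hP2
    rw [sub_sub_cancel] at h
    have h' : HasTv H eP ((-1 : F) • (θ • Pi.single i0 1)) :=
      HasTv.scale (by simp) (by rw [neg_one_smul]; exact h)
    have h'' := hDP.comm h' (by simp [heL, Fin.ext_iff])
    rw [heP, dotProduct_single, coe_single, if_pos rfl, one_mul, one_smul, neg_one_smul] at h''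
    simpa using h''.neg
  -- the invariant part
  let ι : (Fin 2 → F) → V := fun η => blk η + (η 0 / s ^ 2 + η 1 / s) • Pi.single i2 1
  have hι : ∀ η ζ, ι (η + ζ) = ι η + ι ζ := fun η ζ => by
    simp only [ι, blk_add, Pi.add_apply, add_div, add_smul]; abel
  have hιw : ∀ η : Fin 2 → F, ι η ᵥ* (wS s θ).1 = ι (η ᵥ* W2 s) := by
    intro η
    have e0 : (η ᵥ* W2 s) 0 = (2 + s) * η 0 + s * η 1 := by
      simp [W2, Matrix.vecMul, dotProduct, Fin.sum_univ_two]; ring
    have e1 : (η ᵥ* W2 s) 1 = -(η 0 / s) := by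
      simp [W2, Matrix.vecMul, dotProduct, Fin.sum_univ_two]; ring
    rw [wS_vecMul hs]
    funext k
    simp only [ι, Pi.add_apply, Pi.smul_apply, blk_apply, coe_single, smul_eq_mul, Fin.ext_iff, e0, e1]
    have := k.isLt
    simp
    (try split_ifs) <;> (try contradiction) <;> (try (exfalso; (try simp only [Fin.ext_iff, Fin.val_zero] at *); omega)) <;> field_simp <;> ring
  have hDw : ∀ φ : V, D φ → D (φ ᵥ* (wS s θ).1) := fun φ h => h.conj' hwH (wS_mulVec_eL hs θ)
  have hDι : ∀ η, D (ι η) := by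
    let A : AddSubgroup (Fin 2 → F) :=
      { carrier := {η | D (ι η)}
        add_mem' := fun {a b} ha hb => by show D _; rw [hι]; exact HasTv.add ha hb
        zero_mem' := by
          show D _
          have : ι 0 = 0 := by simpa using hι 0 0
          rw [this]; exact HasTv.zero _
        neg_mem' := fun {a} ha => by
          show D _
          have h0 : ι 0 = 0 := by simpa using hι 0 0
          have : ι (-a) = -ι a := eq_neg_of_add_eq_zero_left (by rw [← hι, neg_add_cancel, h0])
          rw [this]; exact HasTv.neg ha }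
    have hA0 : (![θ * (1 + s), -(θ / s)] : Fin 2 → F) ∈ A := by
      show D _
      have h := (hDw _ hD0).sub hD0
      convert h using 1
      rw [wS_vecMul hs]
      funext k
      simp only [ι, Pi.add_apply, Pi.sub_apply, Pi.smul_apply, blk_apply, coe_single, smul_eq_mul,
        Fin.ext_iff]
      have := k.isLt
      simp
      (try split_ifs) <;> (try contradiction) <;> (try (exfalso; (try simp only [Fin.ext_iff, Fin.val_zero] at *); omega)) <;> field_simp <;> ring
    have := TwoBlock.eq_top_of_invariant hW A (fun η h => by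
      show D _; rw [← hιw]; exact hDw _ h) hA0 (fun e => by
        have := congrFun e 1
        simp [hθ, hs] at this)
    exact fun η => (this ▸ AddSubgroup.mem_top η : η ∈ A)
  have hιz : ∀ η, ι η ⬝ᵥ z = (η 0 / s ^ 2 + η 1 / s) * σ2 := by
    intro η
    simp only [ι, blk, add_dotProduct, smul_dotProduct, he2z, single_dotProduct, one_mul, smul_eq_mul]
    simp [hz]
  have hιP : ∀ η, η 0 / s ^ 2 + η 1 / s = 0 → ι η iP = 0 := by
    intro η hη
    simp [ι, blk_apply, hη, Fin.ext_iff]
  have hscal : ∀ (φ : V), D φ → φ iP = 0 → ∀ a : F, D (a • (φ ᵥ* (vS θ).1)) := by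
    intro φ hφ hP a
    have := shift _ φ (hDι ![a * σ2 * s ^ 2, 0]) hφ hP
    rw [hιz] at this
    convert this using 2
    simp only [Matrix.cons_val_zero, Matrix.cons_val_one]
    field_simp
    linear_combination (-a * s) * hσ
  have hblk : ∀ η, D (blk η) := by
    have hA : ∀ a : F, D (blk ![a * s, -a]) := fun a => by
      convert hDι ![a * s, -a] using 1
      simp only [ι, Matrix.cons_val_zero, Matrix.cons_val_one]
      rw [show a * s / s ^ 2 + -a / s = 0 by field_simp; ring, zero_smul, add_zero]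
    have hB : ∀ a : F, D (blk ![a * s, a * (s - 1)]) := fun a => by
      have h := hscal (blk ![s, -1]) (by simpa using hA 1) (by simp [blk_apply, Fin.ext_iff]) a
      convert h using 1
      funext k
      rw [Pi.smul_apply, vS_vecMul, rS_vecMul]
      simp only [Pi.add_apply, Pi.smul_apply, blk_apply, coe_single, smul_eq_mul, Fin.ext_iff]
      have := k.isLt
      simp
      (try split_ifs) <;> (try contradiction) <;> (try (exfalso; (try simp only [Fin.ext_iff, Fin.val_zero] at *); omega)) <;>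
      first | (simp; done) | (intros; omega) | (ring; done)
    intro η
    have h := (hA ((η 0 / s) - ((η 1 + η 0 / s) / s))).add (hB ((η 1 + η 0 / s) / s))
    convert h using 1
    rw [← blk_add]
    congr 1
    funext i
    fin_cases i <;> simp <;> field_simp <;> ring
  have he2 : ∀ a : F, D (a • Pi.single i2 1) := fun a => by
    have := (hDι ![a * s ^ 2, 0]).sub (hblk ![a * s ^ 2, 0])
    convert this using 1
    simp only [ι, Matrix.cons_val_zero, Matrix.cons_val_one, zero_div, add_zero]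
    rw [mul_div_cancel_right₀ a (pow_ne_zero 2 hs)]
    abel
  have hej : ∀ (m : ℕ) (j : Fin (d + 4)), (j : ℕ) = m + 2 → (j : ℕ) ≤ d + 2 →
      ∀ a : F, D (a • Pi.single j 1) := by
    intro m
    induction m with
    | zero => intro j hj _; obtain rfl : j = i2 := Fin.ext hj; exact he2
    | succ m ih =>
      intro j hj hjP a
      set j₀ : Fin (d + 4) := ⟨m + 2, by omega⟩
      have h0 := hscal (Pi.single j₀ 1) (by simpa using ih j₀ rfl (by simp [j₀]; omega) 1)
        (by simp [coe_single, Fin.ext_iff, j₀]; omega) a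
      rw [hev j₀ j (by simp [j₀]) (by simp [j₀]; omega), smul_add] at h0
      have := h0.sub (ih j₀ rfl (by simp [j₀]; omega) a)
      rwa [add_sub_cancel_left] at this
  have hfullL : Full H eL := by
    intro φ hφ
    have hL : φ iL = 0 := by simpa [heL] using hφ
    have hall : ∀ S : Finset (Fin (d + 4)), iL ∉ S → D (∑ i ∈ S, φ i • Pi.single i 1) := by
      intro S
      induction S using Finset.induction with
      | empty => intro _; rw [Finset.sum_empty]; exact HasTv.zero _
      | @insert i S hi ih =>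
        intro hn
        rw [Finset.mem_insert, not_or] at hn
        rw [Finset.sum_insert hi]
        refine HasTv.add ?_ (ih hn.2)
        have hiL : (i : ℕ) ≠ d + 3 := fun e => hn.1 (Fin.ext e.symm)
        rcases Nat.lt_or_ge (i : ℕ) 2 with hlt | hge
        · rcases (show (i : ℕ) = 0 ∨ (i : ℕ) = 1 by omega) with e | e
          · obtain rfl : i = i0 := Fin.ext e
            convert hblk ![φ i0, 0] using 1
            simp [blk]
          · obtain rfl : i = i1 := Fin.ext e
            convert hblk ![0, φ i1] using 1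
            simp [blk]
        · exact hej ((i : ℕ) - 2) i (by omega) (by omega) _
    have := hall (Finset.univ.erase iL) (Finset.notMem_erase _ _)
    rw [Finset.sum_erase _ (by rw [hL, zero_smul]), ← pi_eq_sum_univ' φ] at this
    exact this
  refine eq_top_of_full (by omega) (eq_top_iff.mpr ?_)
  have hgmem : ∀ g ∈ H, ∀ c ∈ fullSubmodule H, g.1 *ᵥ c ∈ fullSubmodule H :=
    fun g hg c hc => full_conj hg hc
  have hj2 : ∀ (m : ℕ) (j : Fin (d + 4)), (j : ℕ) + m = d + 3 → 2 ≤ (j : ℕ) →
      (Pi.single j 1 : V) ∈ fullSubmodule H := by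
    intro m
    induction m with
    | zero => intro j hj _; obtain rfl : j = iL := Fin.ext hj; exact hfullL
    | succ m ih =>
      intro j hj h2
      set j' : Fin (d + 4) := ⟨(j : ℕ) + 1, by omega⟩
      have hm := ih j' (by simp [j']; omega) (by simp [j']; omega)
      have := Submodule.sub_mem _ (hgmem _ hvH _ hm) hm
      convert this using 1
      funext k
      rw [Pi.sub_apply, vS_mulVec, rS_mulVec]
      simp only [coe_single, Fin.ext_iff, j']
      have := k.isLt
      (try split_ifs) <;> (try contradiction) <;> (try (exfalso; (try simp only [Fin.ext_iff, Fin.val_zero] at *); omega)) <;>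
      first | (simp; done) | (intros; omega) | (ring; done)
  have hm2 : (Pi.single i2 1 : V) ∈ fullSubmodule H := hj2 (d + 1) i2 (by simp; omega) le_rfl
  have hm1 : (Pi.single i1 1 : V) ∈ fullSubmodule H := by
    have := Submodule.sub_mem _ (hgmem _ huH _ hm2) hm2
    convert this using 1
    rw [uS, SpecialLinearGroup.coe_mul, ← mulVec_mulVec]
    funext k
    simp only [Pi.sub_apply, xS, SpecialLinearGroup.coe_mul, ← mulVec_mulVec, xx_mulVec, rS_mulVec,
      coe_single, Fin.ext_iff]
    have := k.isLt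
    simp
    (try split_ifs) <;> (try contradiction) <;> (try (exfalso; (try simp only [Fin.ext_iff, Fin.val_zero] at *); omega)) <;>
      first | (simp; done) | (intros; omega) | (ring; done)
  have hm0 : (Pi.single i0 1 : V) ∈ fullSubmodule H := by
    have h1 := hgmem _ huH _ hm1
    have h2 := Submodule.smul_mem _ s (Submodule.sub_mem _ h1 (Submodule.smul_mem _ (2 : F) hm1))
    convert h2 using 1
    rw [uS, SpecialLinearGroup.coe_mul, ← mulVec_mulVec]
    funext k
    simp only [Pi.smul_apply, Pi.sub_apply, smul_eq_mul, xS, SpecialLinearGroup.coe_mul,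
      ← mulVec_mulVec, xx_mulVec, rS_mulVec, coe_single, Fin.ext_iff]
    have := k.isLt
    simp
    (try split_ifs) <;> (try contradiction) <;> (try (exfalso; (try simp only [Fin.ext_iff, Fin.val_zero] at *); omega)) <;> field_simp <;> ring
  rintro φ -
  rw [pi_eq_sum_univ' φ]
  refine Submodule.sum_mem _ fun i _ => Submodule.smul_mem _ _ ?_
  rcases Nat.lt_or_ge (i : ℕ) 2 with hlt | hge
  · rcases (show (i : ℕ) = 0 ∨ (i : ℕ) = 1 by omega) with e | e
    · obtain rfl : i = i0 := Fin.ext e; exact hm0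
    · obtain rfl : i = i1 := Fin.ext e; exact hm1
  · exact hj2 (d + 3 - (i : ℕ)) i (by omega) hge

end CfsgLib.SLGen2
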