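/-
The two generators are regular unipotent, conjugate for suitable parameters.
-/
import Cfsg.Agent.Lib.SLGen.TwoReg

set_option autoImplicit false

namespace CfsgLib.SLGen2

open Matrix CfsgLib.PSLn CfsgLib.RegUnip
open CfsgLib.SLGen (iL iP)

variable {F : Type*} [Field F] {d : ℕ}

local notation "V" => Fin (d + 4) → F
local notation "SL" => Matrix.SpecialLinearGroup (Fin (d + 4)) F
local notation "Mat" => Matrix (Fin (d + 4)) (Fin (d + 4)) F

/-- The order of the chain of the second generator. -/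
def σS : Equiv.Perm (Fin (d + 4)) := finRotate (d + 4) * finRotate (d + 4)

theorem sign_σS : Equiv.Perm.sign (σS : Equiv.Perm (Fin (d + 4))) = 1 := by
  rw [σS, map_mul, ← pow_two]; exact Int.units_sq _

theorem σS_val (i : Fin (d + 4)) : ((σS : Equiv.Perm (Fin (d + 4))) i : ℕ) =
    if (i : ℕ) < d + 2 then (i : ℕ) + 2 else (i : ℕ) - (d + 2) := by
  have h : ∀ j : Fin (d + 4), (finRotate (d + 4) j : ℕ) = if (j : ℕ) = d + 3 then 0 else (j : ℕ) + 1 := by
    intro j
    rw [finRotate_succ_apply, Fin.val_add_one]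
    by_cases hj : (j : ℕ) = d + 3
    · rw [if_pos hj, if_pos (Fin.ext (by rw [Fin.val_last]; exact hj))]
    · rw [if_neg hj, if_neg (fun e => hj (by rw [e, Fin.val_last]))]
  have hi := i.isLt
  rw [σS, Equiv.Perm.mul_apply, h, h]
  by_cases h1 : (i : ℕ) < d + 2
  · rw [if_neg (show ¬ (i : ℕ) = d + 3 by omega), if_neg (show ¬ (i : ℕ) + 1 = d + 3 by omega), if_pos h1]
  by_cases h2 : (i : ℕ) = d + 3
  · rw [if_pos h2, if_neg (show ¬ 0 = d + 3 by omega), if_neg h1]; omega
  · rw [if_neg h2, if_pos (show (i : ℕ) + 1 = d + 3 by omega), if_neg h1]; omega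

theorem single_at (i : Fin (d + 4)) (k : Fin (d + 4)) :
    (Pi.single i (1 : F) : V) k = if (k : ℕ) = (i : ℕ) then 1 else 0 := by
  rw [Pi.single_apply]; simp [Fin.ext_iff]

/-- The strictly upper triangular form of the second generator. -/
def kV (θ : F) : Mat := Matrix.of fun a b =>
  (if (a : ℕ) + 1 = b then (if (a : ℕ) = d + 1 then θ else 1) else 0) +
    (if (a : ℕ) = d + 1 ∧ (b : ℕ) = d + 3 then θ else 0)

theorem vS_sub_one (θ : F) : ((vS θ : SL).1 - 1) =
    (kV θ : Mat).submatrix σS.symm σS.symm := by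
  ext i j
  obtain ⟨a, rfl⟩ := (σS : Equiv.Perm (Fin (d + 4))).surjective i
  obtain ⟨b, rfl⟩ := (σS : Equiv.Perm (Fin (d + 4))).surjective j
  rw [Matrix.submatrix_apply, Equiv.symm_apply_apply, Equiv.symm_apply_apply]
  have h : ((vS θ : SL).1 - 1) (σS a) (σS b) =
      ((vS θ : SL).1 *ᵥ Pi.single (σS b) 1) (σS a) - (1 : Mat) (σS a) (σS b) := by
    rw [Matrix.sub_apply, Matrix.mulVec_single_one]; rfl
  rw [h, vS_mulVec, rS_mulVec]
  simp only [single_at, Matrix.one_apply, Fin.ext_iff, σS_val, kV, Matrix.of_apply]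
  have := a.isLt
  have := b.isLt
  by_cases ha : (a : ℕ) < d + 2 <;> by_cases hb : (b : ℕ) < d + 2
  all_goals simp only [*, if_true, if_false]
  all_goals
    split_ifs <;> (try contradiction) <;> (try (exfalso; omega)) <;>
      first | (simp; done) | (ring; done)

/-- The strictly upper triangular form of the first generator. -/
def kU (s : F) : Mat := Matrix.of fun a b =>
  (if (a : ℕ) + 1 = b then (if (a : ℕ) = 0 then s⁻¹ else 1) else 0) +
    (if (a : ℕ) = 1 ∧ (b : ℕ) = 3 then 1 else 0)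

/-- The change of basis. -/
def gU (s : F) : SL := xx i1 i0 h01.symm s

theorem coe_single' (i : Fin (d + 4)) (k : Fin (d + 4)) :
    (Pi.single i (1 : F) : V) k = if (k : ℕ) = (i : ℕ) then 1 else 0 := single_at i k

theorem rS_comm_xx (t : F) : (rS : SL) * xx i1 i0 h01.symm t = xx i1 i0 h01.symm t * rS := by
  apply Subtype.ext
  refine Matrix.ext_of_mulVec_single fun j => funext fun k => ?_
  simp only [SpecialLinearGroup.coe_mul, ← mulVec_mulVec, xx_mulVec, rS_mulVec, Fin.ext_iff]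
  have := k.isLt
  by_cases hk : (k : ℕ) = 1
  · simp [hk]
  by_cases hk2 : 2 ≤ (k : ℕ) ∧ (k : ℕ) + 1 < d + 4
  · simp only [dif_pos hk2, hk, show ¬ (k : ℕ) + 1 = 1 by omega, if_false, add_zero]
  · simp only [dif_neg hk2, hk, if_false, add_zero]

theorem x10_comm_x12 (t : F) : (xx i1 i0 h01.symm t : SL) * xx i1 i2 h12 1 =
    xx i1 i2 h12 1 * xx i1 i0 h01.symm t := by
  apply Subtype.ext
  refine Matrix.ext_of_mulVec_single fun j => funext fun k => ?_
  simp only [SpecialLinearGroup.coe_mul, ← mulVec_mulVec, xx_mulVec, Fin.ext_iff]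
  by_cases hk : (k : ℕ) = 1
  · simp [hk]; ring
  · simp [hk]

theorem uS_conj {s : F} : (gU s : SL)⁻¹ * uS s * gU s =
    xx i1 i2 h12 1 * xx i0 i1 h01 s⁻¹ * rS := by
  rw [gU, uS, xS, CfsgLib.PSLn.xx_inv, mul_assoc, mul_assoc, rS_comm_xx]
  simp only [← mul_assoc]
  rw [x10_comm_x12]
  simp only [mul_assoc]
  rw [show (xx i1 i0 h01.symm (-s) : SL) = (xx i1 i0 h01.symm s)⁻¹ by rw [CfsgLib.PSLn.xx_inv]]
  simp

theorem uS'_sub_one (s : F) :
    ((xx i1 i2 h12 1 * xx i0 i1 h01 s⁻¹ * rS : SL).1 - 1) = (kU s : Mat) := by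
  ext a b
  have h : ((xx i1 i2 h12 1 * xx i0 i1 h01 s⁻¹ * rS : SL).1 - 1) a b =
      ((xx i1 i2 h12 1 * xx i0 i1 h01 s⁻¹ * rS : SL).1 *ᵥ Pi.single b 1) a - (1 : Mat) a b := by
    rw [Matrix.sub_apply, Matrix.mulVec_single_one]; rfl
  rw [h]
  simp only [SpecialLinearGroup.coe_mul, ← mulVec_mulVec, xx_mulVec, rS_mulVec, single_at,
    Matrix.one_apply, Fin.ext_iff, kU, Matrix.of_apply]
  have := a.isLt
  have := b.isLt
  by_cases ha0 : (a : ℕ) = 0
  · simp [ha0]
  by_cases ha1 : (a : ℕ) = 1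
  · simp [ha1]
    split_ifs <;> (try contradiction) <;> (try (exfalso; omega)) <;>
      first | (simp; done) | (ring; done)
  · simp [ha0, ha1, show 2 ≤ (a : ℕ) by omega]
    split_ifs <;> (try contradiction) <;> (try (exfalso; omega)) <;>
      first | (simp; done) | (ring; done)

theorem kV_zero (θ : F) : ∀ a b : Fin (d + 4), (b : ℕ) ≤ a → (kV θ : Mat) a b = 0 := by
  intro a b h
  simp only [kV, Matrix.of_apply]
  rw [if_neg (by omega), if_neg (by omega), add_zero]

theorem kU_zero (s : F) : ∀ a b : Fin (d + 4), (b : ℕ) ≤ a → (kU s : Mat) a b = 0 := by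
  intro a b h
  simp only [kU, Matrix.of_apply]
  rw [if_neg (by omega), if_neg (by omega), add_zero]

/-- The determinant of the chain of the second generator. -/
theorem vS_chain (θ : F) : ((vS θ : SL).1 - 1) ^ (d + 4) = 0 ∧ ∃ ξ : V,
    (chain ((vS θ : SL).1 - 1) ξ).det =
      ((Equiv.Perm.sign (Fin.revPerm (n := d + 4)) : ℤ) : F) * θ ^ (d + 2) := by
  obtain ⟨hnil, hdet⟩ := strictUpper_chain (K := (kV θ : Mat)) (by omega) (kV_zero θ)
    (fun m => if 2 ≤ m then θ else 1) (by simp) (by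
      intro m a b ha hb
      simp only [kV, Matrix.of_apply]
      rw [if_pos hb.symm, if_neg (show ¬ ((a : ℕ) = d + 1 ∧ (b : ℕ) = d + 3) by omega), add_zero]
      split_ifs <;> (try (exfalso; omega)) <;> simp)
  set P : Mat := Equiv.Perm.permMatrix F ((σS : Equiv.Perm (Fin (d + 4))).symm)
  have hP : P * (kV θ : Mat) = ((vS θ : SL).1 - 1) * P := by
    have := permMatrix_conj (F := F) (σS : Equiv.Perm (Fin (d + 4))).symm ((vS θ : SL).1 - 1)
    rwa [Equiv.symm_symm, show (((vS θ : SL).1 - 1) : Mat).submatrix σS σS = kV θ by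
      rw [vS_sub_one, Matrix.submatrix_submatrix]
      simp] at this
  refine ⟨?_, P *ᵥ Pi.single ⟨d + 4 - 1, by omega⟩ 1, ?_⟩
  · have hu : IsUnit P := (Matrix.isUnit_iff_isUnit_det _).mpr (by
      rw [show P = Equiv.Perm.permMatrix F ((σS : Equiv.Perm (Fin (d + 4))).symm) from rfl, Matrix.det_permutation]
      exact (Units.map (Int.castRingHom F).toMonoidHom (Equiv.Perm.sign ((σS : Equiv.Perm (Fin (d + 4))).symm))).isUnit)
    have hk : ∀ k : ℕ, P * (kV θ : Mat) ^ k = ((vS θ : SL).1 - 1) ^ k * P := fun k => by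
      induction k with
      | zero => simp
      | succ k ih => rw [pow_succ, pow_succ, ← mul_assoc, ih, mul_assoc, hP, mul_assoc]
    have := hk (d + 4)
    rw [hnil, mul_zero] at this
    exact hu.mul_left_eq_zero.mp this.symm
  · rw [chain_conj hP, det_mul, hdet, Matrix.det_permutation, Equiv.Perm.sign_symm, sign_σS,
      Units.val_one, Int.cast_one, one_mul]
    congr 1
    rw [Fin.prod_univ_succ, Fin.prod_univ_succ, Finset.prod_congr rfl
      (g := fun _ => θ) (fun m _ => if_pos (by simp)), Finset.prod_const, Finset.card_univ, Fintype.card_fin]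
    simp

/-- The determinant of the chain of the first generator. -/
theorem uS_chain (s : F) : ((uS s : SL).1 - 1) ^ (d + 4) = 0 ∧ ∃ ξ : V,
    (chain ((uS s : SL).1 - 1) ξ).det =
      ((Equiv.Perm.sign (Fin.revPerm (n := d + 4)) : ℤ) : F) * s⁻¹ := by
  obtain ⟨hnil, hdet⟩ := strictUpper_chain (K := (kU s : Mat)) (by omega) (kU_zero s)
    (fun m => if m = d + 3 then s⁻¹ else 1) (by simp) (by
      intro m a b ha hb
      simp only [kU, Matrix.of_apply]
      rw [if_pos hb.symm, if_neg (show ¬ ((a : ℕ) = 1 ∧ (b : ℕ) = 3) by omega), add_zero]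
      split_ifs <;> (try (exfalso; omega)) <;> simp)
  have hconj : (gU s : SL).1 * (kU s : Mat) = ((uS s : SL).1 - 1) * (gU s : SL).1 := by
    rw [← uS'_sub_one, ← uS_conj, mul_sub, mul_one, sub_mul, one_mul, sub_left_inj,
      ← SpecialLinearGroup.coe_mul, ← SpecialLinearGroup.coe_mul, ← mul_assoc, ← mul_assoc,
      mul_inv_cancel, one_mul]
  refine ⟨?_, (gU s : SL).1 *ᵥ Pi.single ⟨d + 4 - 1, by omega⟩ 1, ?_⟩
  · have hu : IsUnit (gU s : SL).1 := (Matrix.isUnit_iff_isUnit_det _).mpr (by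
      rw [(gU s : SL).2]; exact isUnit_one)
    have hk : ∀ k : ℕ, (gU s : SL).1 * (kU s : Mat) ^ k = ((uS s : SL).1 - 1) ^ k * (gU s : SL).1 :=
      fun k => by
        induction k with
        | zero => simp
        | succ k ih => rw [pow_succ, pow_succ, ← mul_assoc, ih, mul_assoc, hconj, mul_assoc]
    have := hk (d + 4)
    rw [hnil, mul_zero] at this
    exact hu.mul_left_eq_zero.mp this.symm
  · rw [chain_conj hconj, det_mul, hdet, (gU s : SL).2, one_mul]
    congr 1
    rw [Finset.prod_eq_single (⟨d + 3, by omega⟩ : Fin (d + 4))]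
    · simp
    · intro m _ hm
      exact if_neg (fun e => hm (Fin.ext e))
    · simp

theorem regular_of_chain {u : SL} {ξ : V} (hnil : (u.1 - 1) ^ (d + 4) = 0)
    (h : (chain (u.1 - 1) ξ).det ≠ 0) :
    IsNilpotent (u.1 - 1) ∧ (u.1 - 1) ^ (d + 4 - 1) ≠ 0 :=
  ⟨⟨_, hnil⟩, fun e => top_of_det (by omega) h (by rw [e, zero_mulVec])⟩

theorem sign_ne_zero' : ((Equiv.Perm.sign (Fin.revPerm (n := d + 4)) : ℤ) : F) ≠ 0 :=
  ((Units.map (Int.castRingHom F).toMonoidHom
    (Equiv.Perm.sign (Fin.revPerm (n := d + 4)))).isUnit).ne_zero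

theorem uS_regular {s : F} (hs : s ≠ 0) :
    IsNilpotent ((uS s : SL).1 - 1) ∧ ((uS s : SL).1 - 1) ^ (d + 4 - 1) ≠ 0 := by
  obtain ⟨hnil, ξ, h⟩ := uS_chain (d := d) s
  exact regular_of_chain hnil (by rw [h]; exact mul_ne_zero sign_ne_zero' (inv_ne_zero hs))

theorem vS_regular {θ : F} (hθ : θ ≠ 0) :
    IsNilpotent ((vS θ : SL).1 - 1) ∧ ((vS θ : SL).1 - 1) ^ (d + 4 - 1) ≠ 0 := by
  obtain ⟨hnil, ξ, h⟩ := vS_chain (d := d) θ
  exact regular_of_chain hnil (by rw [h]; exact mul_ne_zero sign_ne_zero' (pow_ne_zero _ hθ))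

theorem isConj_uS_vS {θ : F} (hθ : θ ≠ 0) : IsConj (uS (θ * θ) : SL) (vS θ) := by
  obtain ⟨hnil, ξ, h⟩ := uS_chain (d := d) (θ * θ)
  obtain ⟨hnil', ξ', h'⟩ := vS_chain (d := d) θ
  refine isConj_of_det_eq hnil hnil' (v := θ • ξ) (v' := ξ') ?_ ?_
  · refine top_of_det (by omega) ?_
    rw [det_chain_smul, h]
    exact mul_ne_zero (pow_ne_zero _ hθ) (mul_ne_zero sign_ne_zero' (inv_ne_zero (mul_ne_zero hθ hθ)))
  · rw [det_chain_smul, h, h', show d + 4 = d + 2 + 2 from rfl, pow_add, pow_two]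
    field_simp

end CfsgLib.SLGen2
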