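/-
Generation of `SL_(n+1)` from a root subgroup and the monomial matrix of the full cycle.
-/
import Mathlib.FieldTheory.Finite.Basic
import Cfsg.Agent.Lib.SLGen.SL3

set_option autoImplicit false

namespace CfsgLib.SLCyc

open Matrix CfsgLib.PSLn

variable {K : Type*} [Field K] {n : ℕ}

local notation "SL" => Matrix.SpecialLinearGroup (Fin (n + 1)) K
local notation "Mat" => Matrix (Fin (n + 1)) (Fin (n + 1)) K

/-- The monomial matrix of the cycle. -/
def cyc : Mat :=
  Matrix.of (fun i j => if j.val = i.val + 1 then 1 else if i.val = n ∧ j.val = 0 then (-1) ^ n else 0)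

theorem cyc_apply (i j : Fin (n + 1)) : (cyc : Mat) i j =
    if j.val = i.val + 1 then 1 else if i.val = n ∧ j.val = 0 then (-1) ^ n else 0 := rfl

/-- The only nonzero entry in a column. -/
theorem cyc_mul_single (i i' j : Fin (n + 1)) (h : i.val = i'.val + 1) (a : K) :
    cyc * single i j a = single i' j a := by
  ext k l
  by_cases hl : l = j
  · subst hl
    rw [Matrix.mul_single_apply_same, cyc_apply]
    by_cases hk : k = i'
    · subst hk; rw [if_pos h, one_mul, Matrix.single_apply_same]
    · have hk' : k.val ≠ i'.val := fun e => hk (Fin.ext e)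
      rw [if_neg (by omega), if_neg (by omega), zero_mul, Matrix.single_apply_of_row_ne (Ne.symm hk)]
  · rw [Matrix.mul_single_apply_of_ne _ _ _ _ _ hl, Matrix.single_apply, if_neg (fun e => hl e.2.symm)]

theorem single_mul_cyc (i j j' : Fin (n + 1)) (h : j'.val = j.val + 1) (a : K) :
    single i j a * cyc = single i j' a := by
  ext k l
  by_cases hk : k = i
  · subst hk
    rw [Matrix.single_mul_apply_same, cyc_apply]
    by_cases hl : l = j'
    · subst hl; rw [if_pos h, mul_one, Matrix.single_apply_same]
    · have hl' : l.val ≠ j'.val := fun e => hl (Fin.ext e)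
      have := l.isLt
      have := j'.isLt
      rw [if_neg (by omega), if_neg (by omega), mul_zero, Matrix.single_apply,
        if_neg (fun e => hl e.2.symm)]
  · rw [Matrix.single_mul_apply_of_ne _ _ _ _ _ hk, Matrix.single_apply_of_row_ne (Ne.symm hk)]

theorem single_mul_cyc_last (i j j' : Fin (n + 1)) (h : j.val = n) (h0 : j'.val = 0) (a : K) :
    single i j a * cyc = single i j' (a * (-1) ^ n) := by
  ext k l
  by_cases hk : k = i
  · subst hk
    rw [Matrix.single_mul_apply_same, cyc_apply]
    by_cases hl : l = j'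
    · subst hl
      rw [if_neg (by omega), if_pos ⟨h, h0⟩, Matrix.single_apply_same]
    · have hl' : l.val ≠ 0 := fun e => hl (Fin.ext (by omega))
      have := l.isLt
      rw [if_neg (by omega), if_neg (by omega), mul_zero, Matrix.single_apply,
        if_neg (fun e => hl e.2.symm)]
  · rw [Matrix.single_mul_apply_of_ne _ _ _ _ _ hk, Matrix.single_apply_of_row_ne (Ne.symm hk)]

/-- Generation from one root subgroup and the cycle. -/
theorem top_of_root_cyc (hn : 1 ≤ n) {H : Subgroup SL} {w : SL} (hw : w.1 = cyc) (hwH : w ∈ H)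
    (h : ∀ (i j : Fin (n + 1)) (hij : i ≠ j), i.val = 0 → j.val = 1 → ∀ a : K, xx i j hij a ∈ H) :
    H = ⊤ := by
  classical
  have step : ∀ (i : ℕ) (hi : i < n) (a : K),
      xx (⟨i, by omega⟩ : Fin (n + 1)) ⟨i + 1, by omega⟩ (by simp [Fin.ext_iff]) a ∈ H := by
    intro i
    induction i with
    | zero => intro hi a; exact h _ _ _ rfl rfl a
    | succ i ih =>
      intro hi a
      have e : w * xx (⟨i + 1, by omega⟩ : Fin (n + 1)) ⟨i + 1 + 1, by omega⟩ (by simp [Fin.ext_iff]) a =
          xx (⟨i, by omega⟩ : Fin (n + 1)) ⟨i + 1, by omega⟩ (by simp [Fin.ext_iff]) a * w := by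
        apply Subtype.ext
        rw [SpecialLinearGroup.coe_mul, SpecialLinearGroup.coe_mul, coe_xx, coe_xx, hw, Matrix.mul_add,
          Matrix.add_mul, Matrix.mul_one, Matrix.one_mul, cyc_mul_single _ ⟨i, by omega⟩ _ rfl,
          single_mul_cyc _ _ ⟨i + 1 + 1, by omega⟩ rfl]
      have h' := mul_mem (inv_mem hwH) (mul_mem (ih (by omega) a) hwH)
      rwa [← e, inv_mul_cancel_left] at h'
  set L : Fin (n + 1) := ⟨n, by omega⟩
  have hlast : ∀ (hL0 : L ≠ 0) (a : K), xx L 0 hL0 a ∈ H := by
    intro hL0 a
    have e : w * xx L 0 hL0 a =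
        xx (⟨n - 1, by omega⟩ : Fin (n + 1)) L (by simp [L, Fin.ext_iff]; omega) (a * (-1) ^ n) * w := by
      apply Subtype.ext
      rw [SpecialLinearGroup.coe_mul, SpecialLinearGroup.coe_mul, coe_xx, coe_xx, hw, Matrix.mul_add,
        Matrix.add_mul, Matrix.mul_one, Matrix.one_mul,
        cyc_mul_single L ⟨n - 1, by omega⟩ _ (show n = n - 1 + 1 by omega),
        single_mul_cyc_last _ L 0 rfl rfl, mul_assoc, ← mul_pow, neg_mul_neg, one_mul, one_pow, mul_one]
    have hP : xx (⟨n - 1, by omega⟩ : Fin (n + 1)) L (by simp [L, Fin.ext_iff]; omega) (a * (-1) ^ n) ∈ H := by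
      have := step (n - 1) (by omega) (a * (-1) ^ n)
      have e2 : (⟨n - 1 + 1, by omega⟩ : Fin (n + 1)) = L := Fin.ext (show n - 1 + 1 = n by omega)
      simpa only [e2] using this
    have h' := mul_mem (inv_mem hwH) (mul_mem hP hwH)
    rwa [← e, inv_mul_cancel_left] at h'
  have hup : ∀ (d : ℕ) (i j : Fin (n + 1)) (hij : i ≠ j), j.val = i.val + d + 1 → ∀ a : K,
      xx i j hij a ∈ H := by
    intro d
    induction d with
    | zero =>
      intro i j hij hd a
      have := step i.val (by omega) a
      have e2 : (⟨i.val + 1, by omega⟩ : Fin (n + 1)) = j := Fin.ext (show i.val + 1 = j.val by omega)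
      simpa only [e2, Fin.eta] using this
    | succ d ih =>
      intro i j hij hd a
      set m : Fin (n + 1) := ⟨i.val + d + 1, by omega⟩
      have him : i ≠ m := fun e => by have := congrArg Fin.val e; simp [m] at this; omega
      have hmj : m ≠ j := fun e => by have := congrArg Fin.val e; simp [m] at this; omega
      have hs := step m.val (by simp [m]; omega) 1
      have e2 : (⟨m.val + 1, by simp [m]; omega⟩ : Fin (n + 1)) = j :=
        Fin.ext (show m.val + 1 = j.val by simp [m]; omega)
      simp only [e2, Fin.eta] at hs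
      have := SLGen.comm_mem him hmj hij (ih i m him rfl a) hs
      rwa [mul_one] at this
  have hup' : ∀ (i j : Fin (n + 1)) (hij : i ≠ j), i < j → ∀ a : K, xx i j hij a ∈ H := fun i j hij hlt a => by
    have : i.val < j.val := hlt
    exact hup (j.val - i.val - 1) i j hij (by omega) a
  have hi0 : ∀ (i : Fin (n + 1)) (hi : i ≠ 0) (a : K), xx i 0 hi a ∈ H := by
    intro i hi a
    by_cases hiL : i = L
    · subst hiL; exact hlast hi a
    · have hL0 : L ≠ 0 := fun e => by have := congrArg Fin.val e; simp [L] at this; omega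
      have hlt : i < L := lt_of_le_of_ne (Nat.le_of_lt_succ i.isLt) hiL
      have := SLGen.comm_mem hiL hL0 hi (hup' i L hiL hlt a) (hlast hL0 1)
      rwa [mul_one] at this
  refine SLGen.eq_top_of_xx (by omega) fun i j hij a => ?_
  rcases lt_or_gt_of_ne hij with hlt | hgt
  · exact hup' i j hij hlt a
  · have hi : i ≠ 0 := (lt_of_le_of_lt (Fin.zero_le _) hgt).ne'
    by_cases hj : j = 0
    · subst hj; exact hi0 i hij a
    · have := SLGen.comm_mem hi (Ne.symm hj) hij (hi0 i hi a)
        (hup' 0 j (Ne.symm hj) (Fin.pos_iff_ne_zero.mpr hj) 1)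
      rwa [mul_one] at this

end CfsgLib.SLCyc
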