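/-
The square of a primitive element generates the field.
-/
import Mathlib.FieldTheory.Finite.Basic

set_option autoImplicit false

namespace CfsgLib.SLGen3

/-- The square of a primitive element generates a finite field with more than three elements. -/
theorem closure_sq {K : Type*} [Field K] [Fintype K] (k : Kˣ) (hk : ∀ u : Kˣ, u ∈ Subgroup.zpowers k)
    (hK : 3 < Fintype.card K) : Subring.closure ({(k : K) ^ 2} : Set K) = ⊤ := by
  classical
  set S := Subring.closure ({(k : K) ^ 2} : Set K)
  have hkS : (k : K) ^ 2 ∈ S := Subring.subset_closure (Set.mem_singleton _)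
  by_contra hne
  obtain ⟨x, -, hx⟩ := SetLike.exists_of_lt (lt_top_iff_ne_top.mpr hne)
  set T := Finset.univ.filter fun a : K => a ∈ S
  have hinv : ∀ a ∈ S, a⁻¹ ∈ S := by
    intro a ha
    by_cases h0 : a = 0
    · simp [h0]
    have : a⁻¹ = a ^ (Fintype.card K - 2) := by
      refine inv_eq_of_mul_eq_one_right ?_
      rw [← pow_succ', show Fintype.card K - 2 + 1 = Fintype.card K - 1 by omega,
        FiniteField.pow_card_sub_one_eq_one a h0]
    exact this ▸ pow_mem ha _
  have hsq : T.card * T.card ≤ Fintype.card K := by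
    rw [← Finset.card_product, ← Finset.card_univ]
    refine Finset.card_le_card_of_injOn (fun p => p.1 + p.2 * x) (fun _ _ => Finset.mem_univ _) ?_
    intro p hp p' hp' h
    simp only [Finset.coe_product, Set.mem_prod, Finset.mem_coe, T, Finset.mem_filter,
      Finset.mem_univ, true_and] at hp hp' h
    by_cases h2 : p.2 = p'.2
    · rw [h2, add_left_inj] at h; exact Prod.ext h h2
    · exfalso
      apply hx
      have : x = (p.1 - p'.1) * (p'.2 - p.2)⁻¹ := by
        rw [eq_mul_inv_iff_mul_eq₀ (sub_ne_zero.mpr (Ne.symm h2))]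
        linear_combination -h
      rw [this]
      exact mul_mem (sub_mem hp.1 hp'.1) (hinv _ (sub_mem hp'.2 hp.2))
  have hord : orderOf k = Fintype.card K - 1 := by
    rw [orderOf_eq_card_of_forall_mem_zpowers hk, Nat.card_eq_fintype_card, Fintype.card_units]
  have hsquare : orderOf k ≤ 2 * orderOf (k ^ 2) := by
    refine Nat.le_of_dvd (by have := orderOf_pos (k ^ 2); omega) (orderOf_dvd_of_pow_eq_one ?_)
    rw [pow_mul, pow_orderOf_eq_one]
  have hle : orderOf (k ^ 2) + 1 ≤ T.card := by
    have hinj : Set.InjOn (fun i => ((k ^ 2) ^ i : Kˣ).val) (Finset.range (orderOf (k ^ 2))) := by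
      intro a ha b hb h
      simp only [Finset.coe_range, Set.mem_Iio] at ha hb
      exact pow_injOn_Iio_orderOf ha hb (Units.ext h)
    have hsub : insert 0 ((Finset.range (orderOf (k ^ 2))).image fun i => ((k ^ 2) ^ i : Kˣ).val) ⊆ T := by
      intro y hy
      simp only [T, Finset.mem_filter, Finset.mem_univ, true_and]
      rcases Finset.mem_insert.mp hy with rfl | hy
      · exact zero_mem S
      · obtain ⟨i, -, rfl⟩ := Finset.mem_image.mp hy
        rw [Units.val_pow_eq_pow_val, Units.val_pow_eq_pow_val]
        exact pow_mem hkS _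
    have hnot : (0 : K) ∉ (Finset.range (orderOf (k ^ 2))).image fun i => ((k ^ 2) ^ i : Kˣ).val := by
      intro h
      obtain ⟨i, -, hi⟩ := Finset.mem_image.mp h
      exact Units.ne_zero _ hi
    have := Finset.card_le_card hsub
    rwa [Finset.card_insert_of_notMem hnot, Finset.card_image_of_injOn hinj, Finset.card_range] at this
  by_cases h3 : 3 ≤ T.card
  · have : 3 * T.card ≤ T.card * T.card := Nat.mul_le_mul_right _ h3
    omega
  · have : T.card = 2 := by
      have : 1 ≤ orderOf (k ^ 2) := orderOf_pos _
      omega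
    omega

end CfsgLib.SLGen3
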