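/-
The centraliser of a transvection in `GL_n`.
-/
import Mathlib.LinearAlgebra.Matrix.GeneralLinearGroup.Card
import Mathlib.LinearAlgebra.Matrix.SchurComplement
import Cfsg.Agent.Lib.PSLn.Extend

set_option autoImplicit false

namespace CfsgLib.TvCent

open Matrix

variable {F : Type*} [Field F] {n m : ℕ}

theorem exists_frame (hn : 2 ≤ n) {v w : Fin n → F} (hv : v ≠ 0) (hw : w ≠ 0) (h : w ⬝ᵥ v = 0) :
    ∃ A : GL (Fin n) F, A.1 *ᵥ Pi.single ⟨0, by omega⟩ 1 = v ∧
      w ᵥ* A.1 = Pi.single ⟨1, by omega⟩ 1 := by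
  classical
  set i₀ : Fin n := ⟨0, by omega⟩
  set i₁ : Fin n := ⟨1, by omega⟩
  have h01 : i₀ ≠ i₁ := by simp [i₀, i₁, Fin.ext_iff]
  obtain ⟨j, hj⟩ := Function.ne_iff.mp hw
  rw [Pi.zero_apply] at hj
  let u : Fin n → F := Pi.single j (w j)⁻¹
  have hu : w ⬝ᵥ u = 1 := by simp [u, dotProduct_single, mul_inv_cancel₀ hj]
  have hind : LinearIndependent F ![v, u] := by
    rw [LinearIndependent.pair_iff]
    intro a b hab
    have hb := congrArg (fun x => w ⬝ᵥ x) hab
    simp only [dotProduct_add, dotProduct_smul, h, hu, dotProduct_zero, smul_eq_mul, mul_zero,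
      zero_add, mul_one] at hb
    subst hb
    rw [zero_smul, add_zero] at hab
    exact ⟨(smul_eq_zero.mp hab).resolve_right hv, rfl⟩
  have hind0 : LinearIndependent F ![(Pi.single i₀ 1 : Fin n → F), Pi.single i₁ 1] := by
    rw [LinearIndependent.pair_iff]
    intro a b hab
    have e0 := congrFun hab i₀
    have e1 := congrFun hab i₁
    simp [h01, Ne.symm h01] at e0 e1
    exact ⟨e0, e1⟩
  obtain ⟨M, hM⟩ := CfsgLib.PSLn.exists_GL_mulVec hind0 hind
  have hM0 : M.1 *ᵥ Pi.single i₀ 1 = v := hM 0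
  have hM1 : M.1 *ᵥ Pi.single i₁ 1 = u := hM 1
  let c : Fin n → F := Function.update (-(w ᵥ* M.1)) i₁ 0
  have hc0 : c i₀ = 0 := by
    rw [show c i₀ = -((w ᵥ* M.1) i₀) from Function.update_of_ne h01 _ _, neg_eq_zero]
    rw [← mul_one ((w ᵥ* M.1) i₀), ← dotProduct_single, ← dotProduct_mulVec, hM0, h]
  have hc1 : c i₁ = 0 := Function.update_self _ _ _
  let N : GL (Fin n) F := GeneralLinearGroup.mkOfDetNeZero
    (1 + vecMulVec (Pi.single i₁ (1 : F)) c) (by
      rw [CfsgLib.PSLn.det_one_add_vec, dotProduct_single, hc1, zero_mul, add_zero]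
      exact one_ne_zero)
  refine ⟨M * N, ?_, ?_⟩
  · show (M.1 * (1 + vecMulVec (Pi.single i₁ (1 : F)) c)) *ᵥ Pi.single i₀ 1 = v
    rw [← mulVec_mulVec, add_mulVec, one_mulVec, vecMulVec_mulVec, dotProduct_single, hc0,
      zero_mul, MulOpposite.op_zero, zero_smul, add_zero, hM0]
  · show w ᵥ* (M.1 * (1 + vecMulVec (Pi.single i₁ (1 : F)) c)) = _
    have e1 : (w ᵥ* M.1) i₁ = 1 := by
      rw [← mul_one ((w ᵥ* M.1) i₁), ← dotProduct_single, ← dotProduct_mulVec, hM1, hu]
    rw [← vecMul_vecMul, vecMul_add, vecMul_one, vecMul_vecMulVec, dotProduct_single, e1, mul_one,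
      one_smul]
    funext i
    rw [Pi.add_apply]
    rcases eq_or_ne i i₁ with rfl | hi
    · rw [e1, hc1, add_zero, Pi.single_eq_same]
    · rw [show c i = -((w ᵥ* M.1) i) from Function.update_of_ne hi _ _, Pi.single_eq_of_ne hi]
      ring

local notation "Mat2" => Matrix (Fin 2 ⊕ Fin m) (Fin 2 ⊕ Fin m) F

/-- The standard nilpotent part. -/
def stdN : Mat2 := fromBlocks !![0, 1; 0, 0] 0 0 0

/-- The general centraliser element. -/
def elt (a b : F) (x y : Fin m → F) (A : Matrix (Fin m) (Fin m) F) : Mat2 :=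
  fromBlocks !![a, b; 0, a] (Matrix.of fun i j => if i = 0 then x j else 0)
    (Matrix.of fun i j => if j = 1 then y i else 0) A

theorem elt_comm (a b : F) (x y : Fin m → F) (A : Matrix (Fin m) (Fin m) F) :
    elt a b x y A * stdN = stdN * elt a b x y A := by
  rw [elt, stdN, fromBlocks_multiply, fromBlocks_multiply]
  simp only [Matrix.mul_zero, Matrix.zero_mul, add_zero]
  congr 1
  · ext i j; fin_cases i <;> fin_cases j <;> simp [Matrix.mul_apply, Fin.sum_univ_two]
  · ext i j; fin_cases i <;> simp [Matrix.mul_apply, Fin.sum_univ_two]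
  · ext i j; fin_cases j <;> simp [Matrix.mul_apply, Fin.sum_univ_two]

theorem det_elt (a b : F) (x y : Fin m → F) (A : Matrix (Fin m) (Fin m) F) :
    (elt a b x y A).det = a ^ 2 * A.det := by
  by_cases ha : a = 0
  · subst ha
    rw [zero_pow two_ne_zero, zero_mul]
    refine Matrix.det_eq_zero_of_column_eq_zero (Sum.inl 0) fun i => ?_
    rcases i with i | i
    · fin_cases i <;> simp [elt, fromBlocks]
    · simp [elt, fromBlocks]
  · have hP : (!![a, b; 0, a] : Matrix (Fin 2) (Fin 2) F).det = a ^ 2 := by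
      rw [det_fin_two_of]; ring
    haveI := Matrix.invertibleOfIsUnitDet (!![a, b; 0, a] : Matrix (Fin 2) (Fin 2) F)
      (by rw [hP]; exact (pow_ne_zero 2 ha).isUnit)
    rw [elt, det_fromBlocks₁₁, hP]
    congr 1
    have hi : ⅟ (!![a, b; 0, a] : Matrix (Fin 2) (Fin 2) F) = !![a⁻¹, -b / a ^ 2; 0, a⁻¹] := by
      refine invOf_eq_right_inv ?_
      ext i j
      fin_cases i <;> fin_cases j <;> simp [Matrix.mul_apply, Fin.sum_univ_two, ha]
      field_simp
      ring
    rw [hi]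
    congr 1
    rw [sub_eq_self]
    ext i j
    simp [Matrix.mul_apply, Fin.sum_univ_two]

theorem elt_of_comm {g : Mat2} (h : g * stdN = stdN * g) :
    ∃ a b x y A, g = elt a b x y A := by
  refine ⟨g (Sum.inl 0) (Sum.inl 0), g (Sum.inl 0) (Sum.inl 1), fun j => g (Sum.inl 0) (Sum.inr j),
    fun i => g (Sum.inr i) (Sum.inl 1), g.toBlocks₂₂, ?_⟩
  have key : ∀ i j : Fin 2 ⊕ Fin m, (g * (stdN : Mat2)) i j = ((stdN : Mat2) * g) i j :=
    fun i j => congrFun (congrFun h i) j
  ext i j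
  rcases i with i | i <;> rcases j with j | j
  · have h00 := key (Sum.inl 0) (Sum.inl 1)
    have h10 := key (Sum.inl 1) (Sum.inl 1)
    simp [stdN, Matrix.mul_apply, Fintype.sum_sum_type, Fin.sum_univ_two] at h00 h10
    fin_cases i <;> fin_cases j <;> simp [elt, h00, h10]
  · have h0 := key (Sum.inl 0) (Sum.inr j)
    simp [stdN, Matrix.mul_apply, Fintype.sum_sum_type, Fin.sum_univ_two] at h0
    fin_cases i <;> simp [elt, ← h0]
  · have h0 := key (Sum.inr i) (Sum.inl 1)
    simp [stdN, Matrix.mul_apply, Fintype.sum_sum_type, Fin.sum_univ_two] at h0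
    fin_cases j <;> simp [elt, h0]
  · simp [elt, Matrix.toBlocks₂₂]

theorem card_std [Fintype F] :
    Nat.card {g : GL (Fin 2 ⊕ Fin m) F // g.1 * (stdN : Mat2) = stdN * g.1} =
      (Fintype.card F - 1) * Fintype.card F * Fintype.card F ^ m * Fintype.card F ^ m *
        ∏ i : Fin m, (Fintype.card F ^ m - Fintype.card F ^ (i : ℕ)) := by
  classical
  let f : (Fˣ × F × (Fin m → F) × (Fin m → F) × GL (Fin m) F) →
      {g : GL (Fin 2 ⊕ Fin m) F // g.1 * (stdN : Mat2) = stdN * g.1} := fun p =>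
    ⟨GeneralLinearGroup.mkOfDetNeZero (elt (p.1 : F) p.2.1 p.2.2.1 p.2.2.2.1 p.2.2.2.2.1) (by
      rw [det_elt]
      exact mul_ne_zero (pow_ne_zero 2 p.1.ne_zero) (Matrix.GeneralLinearGroup.det_ne_zero _)),
      elt_comm _ _ _ _ _⟩
  have hf : Function.Bijective f := by
    refine ⟨?_, ?_⟩
    · rintro ⟨a, b, x, y, A⟩ ⟨a', b', x', y', A'⟩ e
      have e' : elt (a : F) b x y A.1 = elt (a' : F) b' x' y' A'.1 :=
        congrArg (fun g : {g : GL (Fin 2 ⊕ Fin m) F // g.1 * (stdN : Mat2) = stdN * g.1} => g.1.1) e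
      obtain ⟨h1, h2, h3, h4⟩ := Matrix.fromBlocks_inj.mp e'
      have ha := congrFun (congrFun h1 0) 0
      have hb := congrFun (congrFun h1 0) 1
      simp at ha hb
      have hx : x = x' := funext fun j => by simpa using congrFun (congrFun h2 0) j
      have hy : y = y' := funext fun i => by simpa using congrFun (congrFun h3 i) 1
      rw [Units.ext ha, hb, hx, hy, Units.ext h4]
    · rintro ⟨g, hg⟩
      obtain ⟨a, b, x, y, A, e⟩ := elt_of_comm hg
      have hdet : (elt a b x y A).det ≠ 0 := by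
        rw [← e]; exact Matrix.GeneralLinearGroup.det_ne_zero g
      rw [det_elt, mul_ne_zero_iff] at hdet
      refine ⟨⟨Units.mk0 a (fun h => hdet.1 (by rw [h]; ring)), b, x, y,
        GeneralLinearGroup.mkOfDetNeZero A hdet.2⟩, ?_⟩
      exact Subtype.ext (Units.ext e.symm)
  rw [← Nat.card_eq_of_bijective f hf, Nat.card_prod, Nat.card_prod, Nat.card_prod, Nat.card_prod,
    Nat.card_fun, Matrix.card_GL_field]
  simp only [Nat.card_eq_fintype_card, Fintype.card_units, Fintype.card_fin]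
  ring

end CfsgLib.TvCent
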